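import Cfsg.Agent.N2.Cl.Sub.Num

/-!
# N2 classical, classes C5 and C8 (helper89): the case division

`GC F φ` : an element of `C_S(φ)` with few fixed points; `sub_of : BoxTy → On pSub`, `cen_of` without the simple subgroup.
-/

set_option autoImplicit false
set_option linter.unusedSectionVars false
set_option maxHeartbeats 400000

namespace Cfsg.Agent.N2C.Sub

open Cfsg Cfsg.Agent.DS.Cl Cfsg.Agent.DS.Cl.Fwd Module
open Cfsg.Agent.FP3 (fx Good)
open Cfsg.Agent.N2C.Cyc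
open Cfsg.Agent.N2C.Size (UC)
open Cfsg.Agent.TH.Cl (KL KU KSp KO Pred)

variable {A A0 : Type} [Ring A] [StarRing A] [Ring A0] [StarRing A0]

/-- the centraliser of `φ` in `F.S` -/
abbrev CS (F : FR A) (φ : RingAut A) : Subgroup F.S := (Subgroup.centralizer {φ}).subgroupOf F.S

/-- the goal without `H` -/
def GC (F : FR A) (φ : RingAut A) : Prop :=
  ∃ a ∈ CS F φ, ∃ c, 1 < c ∧ fx (CS F φ) a ≤ c ∧ c ^ 3 * Nat.card (CS F φ) ≤ Nat.card F.S

variable [Finite A] [Finite A0] {F : FR A} {φ : RingAut A} {e : ℕ} {c : A} {F0 : FR A0} {ι : A0 →+* A} {n q n0 q0 : ℕ}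

theorem GC.good (h : GC F φ) : Good (CS F φ) :=
  have := finAut (A := A)
  let ⟨_, h1, _, _, h2, h3⟩ := h
  N2.good_of_le h1 h2 h3

theorem GC.gd (h : GC F φ) {H : Subgroup (RingAut A)} {p : ℕ} (x : Ctx F H p) (hH : ∀ γ ∈ H, γ * φ = φ * γ) : Gd F H := by
  have := finAut (A := A)
  have h1 : H ≤ Subgroup.centralizer {φ} := fun γ hγ => Subgroup.mem_centralizer_singleton_iff.2 (hH γ hγ)
  have h2 : ¬ F.S ≤ Subgroup.centralizer {φ} := fun k => by
    obtain ⟨_, -, c, h2, -, h3⟩ := h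
    rw [show CS F φ = ⊤ from Subgroup.subgroupOf_eq_top.2 k, Subgroup.card_top] at h3
    have := Nat.one_lt_pow three_ne_zero h2
    have := Nat.card_pos (α := F.S)
    nlinarith
  rw [Gd, show H.subgroupOf F.S = CS F φ from Subgroup.ext fun s => ⟨fun k => h1 k, x.max' h1 h2 s.2⟩]
  exact h.good

theorem gc_of {u : Aˣ} (hu : u ∈ I0 F) (h1 : φ u = u) {x k : ℕ} (hx : 2 ≤ x) (hk : 0 < k) (h2 : fx (CS F φ) (el hu) ≤ x ^ k)
    (h3 : (x ^ k) ^ 3 * Nat.card (CS F φ) ≤ Nat.card F.S) : GC F φ :=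
  ⟨el hu, Subgroup.mem_centralizer_singleton_iff.2 (comm_el hu h1).symm, _, Nat.one_lt_pow hk.ne' hx, h2, h3⟩

theorem Dn.card_le (d : Dn F φ F0 ι) : Nat.card (CS F φ) ≤ 2 * Nat.card F0.Iso :=
  (Nat.le_mul_of_pos_right _ Nat.card_pos).trans d.card

theorem Dn.gc_field (d : Dn F φ F0 ι) (ss : SS A) (hφ : φ ∈ F.Aut) (g : Gal φ e c) (hc : c ∈ C0 A) (un : Uni F)
    (j : ∃ u ∈ F0.Iso, Jd (u : A0) n) (hn : 2 ≤ n) (he : 2 ≤ e) (hq : 2 ≤ q0) (h1 : Nat.card (C0 A) = q0 ^ e)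
    (h2 : ((q0 ^ (e - 1)) ^ (n - 1)) ^ 3 * Nat.card (CS F φ) ≤ Nat.card F.S) : GC F φ := by
  obtain ⟨u, hu, j⟩ := j
  have h3 := un _ (d.map_Iso hu) n (d.jd g j).nil
  exact gc_of h3 (d.fix u) (hq.trans (le_rho he)) (by omega) (fx_field ss hφ g hc h3 (d.fix u) (d.jd g j) (by omega) h1) h2

theorem Dn.gc_graph (d : Dn F φ F0 ι) (ss : SS A) (hφ : φ ∈ F.Aut) (g : Gal φ 2 c) (h : ∀ z ∈ Subring.center A, φ z = star z)
    (un : Uni F) (j : ∃ u ∈ F0.Iso, Jd (u : A0) n) (hn : 5 ≤ n) (hq : 2 ≤ q) (h1 : Nat.card (C0 A) = q)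
    (h2 : (q ^ (n - 3)) ^ 3 * Nat.card (CS F φ) ≤ Nat.card F.S) : GC F φ := by
  obtain ⟨u, hu, j⟩ := j
  have h3 := un _ (d.map_Iso hu) n (d.jd g j).nil
  exact gc_of h3 (d.fix u) hq (by omega) (h1 ▸ fx_graph ss hφ g.pow h h3 (d.fix u) (d.jd g j) hn) h2

theorem Dn.gc_tor (d : Dn F φ F0 ι) (g : Gal φ e c) {m : ℕ} (j : ∃ u ∈ I0 F0, To (u : A0) (q0 ^ (2 * m))) (hq : 2 ≤ q0)
    (h2 : ((q0 ^ m + 1) ^ e) ^ 3 * Nat.card (CS F φ) ≤ Nat.card F.S) : GC F φ := by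
  obtain ⟨u, hu, j⟩ := j
  have := finAut (A := A)
  rw [mul_comm, pow_mul] at j
  exact gc_of (d.map_I0 hu) (d.fix u) (Nat.succ_le_succ (Nat.one_le_pow _ _ (by omega))) g.pos ((N2.fx_le_cn _ _).trans
    ((cn_le _).trans ((cI_le_cU _ _).trans (d.cU_le g (FR.comm_le_Iso hu).1 j)))) h2

theorem sq_inj {a b : ℕ} (h : a ^ 2 = b ^ 2) : a = b := Nat.pow_left_injective two_ne_zero h

theorem ch_ne (hn : 0 < n) : (n + 1).choose 2 ≠ n.choose 2 := by have := ch n; omega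

/-- the type of the fixed ring of a field automorphism -/
theorem Dn.ty_field (bt : BoxTy) (d : Dn F φ F0 ι) (hφ : φ ∈ SAut A) (g : Gal φ e c) (hc : c ∈ C0 A) : ∃ q0, 2 ≤ q0 ∧
    Nat.card (C0 A) = q0 ^ e ∧ (TyLU F n q → TyLU F0 n q0) ∧ (TySp F n q → TySp F0 n q0) ∧ (TyO F n q → TyO F0 n q0) := by
  obtain ⟨n0, q0, hn, hq, t⟩ := bt.all A0 F0 d.ss
  have h1 := d.card_C0 g hφ hc
  have h2 := d.card_cen g
  have h3 := d.card_all g
  have h4 := d.card_L g hφ hc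
  have k := fun {a b} => pow_inj (a := a) (b := b) hq g.pos
  have h0 : Nat.card (C0 A0) = q0 := t.elim (·.c0) fun t => t.elim (·.c0) (·.c0)
  rw [h0] at h1
  refine ⟨q0, hq, h1, fun T => ?_, fun T => ?_, fun T => ?_⟩ <;> rw [T.cen, ← T.c0, h1] at h2 <;>
    rw [T.all, ← T.c0, h1] at h3 <;> rw [T.L, ← T.c0, h1] at h4 <;> rcases t with t | t | t <;> rw [t.cen] at h2 <;>
    rw [t.all] at h3 <;> rw [t.L] at h4
  · exact sq_inj (k h4) ▸ t
  · exact absurd (k (h2.trans (by rw [pow_one]))) (by omega)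
  · exact absurd (k (h2.trans (by rw [pow_one]))) (by omega)
  · exact absurd (k ((pow_one _).trans h2)) (by omega)
  · exact sq_inj (k h3) ▸ t
  · exact absurd (k h4) (by rw [sq_inj (k h3)]; exact ch_ne hn)
  · exact absurd (k ((pow_one _).trans h2)) (by omega)
  · exact absurd (k h4).symm (by rw [sq_inj (k h3)]; exact ch_ne hn)
  · exact sq_inj (k h3) ▸ t

theorem two_eq (ss : SS A) (h : Even (Nat.card (C0 A))) : (1 : A) + 1 = 0 := by
  obtain ⟨x, hx⟩ := exists_prime_addOrderOf_dvd_card' (G := C0 A) 2 h.two_dvd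
  have h1 : (x : A) * (1 + 1) = 0 := by
    have h1 := addOrderOf_nsmul_eq_zero x
    rw [hx, two_nsmul] at h1
    rw [mul_add, mul_one]
    exact congrArg Subtype.val h1
  refine (ss.isUnit_of_cen x.2.1 x.2.2 fun k => ?_).mul_right_eq_zero.1 h1
  rw [show x = 0 from Subtype.ext k, addOrderOf_zero] at hx
  omega

/-- the type of the fixed ring of a graph automorphism -/
theorem Dn.ty_graph (bt : BoxTy) (d : Dn F φ F0 ι) (g : Gal φ 2 c) (h : ∀ z ∈ Subring.center A, φ z = star z)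
    (h1 : Nat.card (C0 A) = q) : Nat.card (Subring.center A) ≠ q ∧
      (TyLU F n q → TySp F0 n q ∨ TyO F0 n q ∧ Odd q ∧ Nat.card (CS F φ) ≤ Nat.card F0.Iso) := by
  obtain ⟨n0, q0, hn, hq, t⟩ := bt.all A0 F0 d.ss
  have h2 := d.card_cen g
  have h3 := d.card_all g
  have h0 : Nat.card (C0 A0) = q0 := t.elim (·.c0) fun t => t.elim (·.c0) (·.c0)
  obtain rfl : q0 = q := by rw [← h0, ← h1, d.card_C0' g h]
  have k := fun {a b} => Nat.pow_right_injective hq (a₁ := a) (a₂ := b)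
  refine ⟨fun h4 => ?_, fun T => ?_⟩
  · rw [h4] at h2
    rcases t with t | t | t <;> rw [t.cen] at h2
    · exact absurd (k ((pow_one _).trans (h2.trans (pow_mul _ _ _).symm))) (by omega)
    · exact absurd (k ((pow_one _).trans h2)) (by omega)
    · exact absurd (k ((pow_one _).trans h2)) (by omega)
  rw [T.cen] at h2
  rw [T.all] at h3
  rcases t with t | t | t <;> rw [t.cen] at h2 <;> rw [t.all, ← pow_mul] at h3
  · exact absurd (k (h2.trans (pow_mul _ _ _).symm)) (by omega)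
  · exact Or.inl (sq_inj (show n0 ^ 2 = n ^ 2 by have := k h3; omega) ▸ t)
  obtain rfl := sq_inj (show n0 ^ 2 = n ^ 2 by have := k h3; omega)
  have h4 : (1 : A0) + 1 ≠ 0 := fun h4 => by
    have h5 : Size.Sym A0 = F0.L := AddSubgroup.ext fun y => by
      rw [d.L, L_graph g h]
      change star y = y ↔ star (ι y) = -ι y
      rw [← d.st, ← map_neg, d.inj.eq_iff, neg_eq_of_add_eq_zero_left (show y + y = 0 by
        rw [← one_mul y, ← add_mul, h4, zero_mul])]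
    have h6 := Size.card_sym_mul (A := A0)
    rw [h5, ← t.min, t.L, t.all, ← pow_add] at h6
    have := k h6
    have := (ch n0).1
    rw [pow_two] at *
    omega
  refine Or.inr ⟨t, Nat.not_even_iff_odd.1 fun h5 => h4 (two_eq d.ss (h0 ▸ h5)), ?_⟩
  have : Nontrivial (UC A0) := ⟨⟨1, ⟨-1, neg_mem (one_mem _), by simp⟩, fun h5 =>
    h4 (eq_neg_iff_add_eq_zero.1 (congrArg (fun z => (z.1 : A0)) h5))⟩⟩
  have h5 := (Nat.mul_le_mul_left _ (Finite.one_lt_card (α := UC A0))).trans d.card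
  change Nat.card (CS F φ) * 2 ≤ _ at h5
  omega

variable (bt : BoxTy) (ss : SS A) (hφ : φ ∈ F.Aut) (hl : φ ∉ Lin A) (hp : (orderOf φ).Prime)
include bt ss hφ hl hp

/-- the two cases -/
theorem cases {H : Subgroup (RingAut A)} {p : ℕ} (x : Ctx F H p) (hI : Irr H) (hc : ∀ γ ∈ H, γ * φ = φ * γ) :
    ∃ (A0 : Type) (_ : Ring A0) (_ : StarRing A0) (_ : Finite A0) (F0 : FR A0) (ι : A0 →+* A), Dn F φ F0 ι ∧
      ((∃ c ∈ C0 A, Gal φ (orderOf φ) c) ∨ (∀ z ∈ Subring.center A, φ z = star z) ∧ ∃ c, Gal φ 2 c) := by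
  rcases exists_gal ss hφ.1 hl hp with ⟨c, h, g⟩ | ⟨h, c, g⟩
  · obtain ⟨A0, _, _, _, F0, ι, d⟩ := dn_field ss hφ g h
    exact ⟨A0, _, _, ‹_›, F0, ι, d, Or.inl ⟨c, h, g⟩⟩
  · obtain ⟨A0, _, _, _, F0, ι, d⟩ := dn_graph ss hφ g h x.le_SAut hI hc (by
      by_contra k
      push Not at k
      refine x.noncomm ⟨⟨fun s t => ?_⟩⟩
      have k' : ∀ s : F.S, s = 1 := by
        rintro ⟨_, u, hu, rfl⟩
        exact Subtype.ext (cj_eq_one_iff.2 (Subring.mem_center_iff.2 fun a => k a u))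
      rw [k' s, k' t])
    exact ⟨A0, _, _, ‹_›, F0, ι, d, Or.inr ⟨h, c, g⟩⟩

variable {H : Subgroup (RingAut A)} {p : ℕ} (x : Ctx F H p) (hI : Irr H) (hc : ∀ γ ∈ H, γ * φ = φ * γ)
include x hI hc

theorem gc_LU (T : TyLU F n q) (un : Uni F) (o : OrdLU F n q) (hn : 5 ≤ n) (hq : 2 ≤ q) : GC F φ := by
  obtain ⟨g', g0, g1, h1, h2⟩ := o
  obtain ⟨A0, _, _, _, F0, ι, d, ⟨c, h, g⟩ | ⟨h, c, g⟩⟩ := cases bt ss hφ hl hp x hI hc
  · obtain ⟨q0, h3, h4, t, -⟩ := d.ty_field (n := n) (q := q) bt hφ.1 g h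
    have t := t T
    refine d.gc_field ss hφ g h un t.jd (by omega) hp.two_le h3 h4 (num_LU h3 hp.two_le (by omega) g0 ?_ (by rwa [← h4, T.c0]))
    have := d.card_le
    have := t.iso
    rw [← t.L]
    omega
  have h3 := d.card_le
  rcases (d.ty_graph (n := n) bt g h T.c0).2 T with t | ⟨t, h4, h5⟩
  · have := t.even
    exact d.gc_graph ss hφ g h un t.jd hn hq T.c0 (num_gSp hq (by grind) g0 (by have := t.iso; rw [← t.L]; omega) h1)
  have h6 := t.iso (by omega)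
  rw [t.L] at h6
  rcases n.even_or_odd with h7 | h7
  · obtain ⟨m, rfl⟩ := even_iff_exists_two_mul.1 h7
    have h8 : 3 ≤ q := by grind
    exact d.gc_tor g (t.tor h7 (by grind)) hq (num_gO2 h8 h4 (by omega) g0 g1 (h5.trans h6) (h2 h8))
  · exact d.gc_graph ss hφ g h un (t.jd h7).2 hn hq T.c0 (num_gO1 hq hn g0 (by omega) h1)

theorem gc_Sp (T : TySp F n q) (un : Uni F) (o : q ^ (n + 1).choose 2 ≤ 3 * Nat.card F.S) (hn : 5 ≤ n) : GC F φ := by
  obtain ⟨A0, _, _, _, F0, ι, d, ⟨c, h, g⟩ | ⟨h, c, g⟩⟩ := cases bt ss hφ hl hp x hI hc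
  · obtain ⟨q0, h3, h4, -, t, -⟩ := d.ty_field (n := n) (q := q) bt hφ.1 g h
    have t := t T
    refine d.gc_field ss hφ g h un t.jd (by omega) hp.two_le h3 h4 (num_Sp h3 hp.two_le hn ?_ (by rwa [← h4, T.c0]))
    have := d.card_le
    have := t.iso
    rw [← t.L]
    omega
  · exact absurd T.cen (d.ty_graph (n := n) bt g h T.c0).1

theorem gc_O (T : TyO F n q) (un : Odd n → Uni F) (o : 5 * q ^ n.choose 2 ≤ 32 * Nat.card F.S)
    (o' : Even q → 5 * q ^ n.choose 2 ≤ 8 * Nat.card F.S) (hn : 7 ≤ n) : GC F φ := by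
  obtain ⟨A0, _, _, _, F0, ι, d, ⟨c, h, g⟩ | ⟨h, c, g⟩⟩ := cases bt ss hφ hl hp x hI hc
  swap
  · exact absurd T.cen (d.ty_graph (n := n) bt g h T.c0).1
  obtain ⟨q0, h3, h4, -, -, t⟩ := d.ty_field (n := n) (q := q) bt hφ.1 g h
  replace t := t T
  have h5 : Nat.card (CS F φ) ≤ 4 * q0 ^ n.choose 2 := by
    have := d.card_le
    have := t.iso (by omega)
    rw [← t.L]
    omega
  have h6 := T.c0.symm.trans h4
  subst h6
  rcases n.even_or_odd with h7 | h7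
  · obtain ⟨m, rfl⟩ := even_iff_exists_two_mul.1 h7
    refine d.gc_tor g (t.tor h7 (by omega)) h3 ?_
    rcases q0.even_or_odd with h8 | h8
    · exact num_O2 h3 hp.two_le (by omega) (by norm_num) (Nat.pow_le_pow_left h3 4) h5 (o' (h8.pow_of_ne_zero g.pos.ne'))
    · exact num_O2 h3 hp.two_le (by omega) (by norm_num)
        (le_trans (by norm_num) (Nat.pow_le_pow_left (show 3 ≤ q0 by grind) 4)) h5 o
  · have h8 := (t.jd h7).1
    exact d.gc_field ss hφ g h (un h7) (t.jd h7).2 (by omega) hp.two_le h3 h4 (num_O1 (by grind) hp.two_le hn h5 o)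

omit ss hφ hl hp x hI hc in
/-- **centralisers of field, graph and graph-field automorphisms** -/
theorem cen_of : On fun A _ _ F H _ => Irr H ∧ ∃ φ ∈ F.Aut, φ ∉ Lin A ∧ (orderOf φ).Prime ∧ ∀ γ ∈ H, γ * φ = φ * γ where
  l := fun K _ _ n F _ _ k hn x ⟨hI, _, h1, h2, h3, h4⟩ => (gc_LU bt x.ss h1 h2 h3 x hI h4 (bt.l K n F (by omega)) (uni_L k)
    (ord_L k) hn (two_le_q K)).gd x h4
  u := fun K V _ _ _ _ _ h F q _ _ k hn x ⟨hI, _, h1, h2, h3, h4⟩ => (gc_LU bt x.ss h1 h2 h3 x hI h4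
    (bt.u K V h F q k.u k.card (by omega)) (uni_U k) (ord_U k) hn (two_le_U k)).gd x h4
  sp := fun K V _ _ _ _ _ h F _ _ _ k hn x ⟨hI, _, h1, h2, h3, h4⟩ => (gc_Sp bt x.ss h1 h2 h3 x hI h4
    (bt.sp K V h F k.sp (by have := k.dim; omega)) (uni_Sp k) (ord_Sp k) (by have := k.dim; omega)).gd x h4
  o := fun K V _ _ _ _ _ h F Q _ _ k x ⟨hI, _, h1, h2, h3, h4⟩ => (gc_O bt x.ss h1 h2 h3 x hI h4
    (bt.o K V h F Q k.o (by have := k.dim; omega)) (uni_O k) (ord_O k).1 (ord_O k).2 k.dim).gd x h4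

omit ss hφ hl hp x hI hc in
theorem sub_of : On pSub :=
  ⟨fun K _ _ n F H p k hn x h => (cen_of bt).l K n F H p k hn x ⟨h.1.1.1.1, h.2⟩,
    fun K V _ _ _ _ _ f F q H p k hn x h => (cen_of bt).u K V f F q H p k hn x ⟨h.1.1.1.1, h.2⟩,
    fun K V _ _ _ _ _ f F q H p k hn x h => (cen_of bt).sp K V f F q H p k hn x ⟨h.1.1.1.1, h.2⟩,
    fun K V _ _ _ _ _ f F q H p k x h => (cen_of bt).o K V f F q H p k x ⟨h.1.1.1.1, h.2⟩⟩

end Cfsg.Agent.N2C.Sub
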