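import Cfsg.Agent.N2.Cl.Sub.Defs
import Cfsg.Agent.N2.Cl.FldSp.Main

/-!
# N2 classical, classes C5 and C8: regular torus elements of the even orthogonal groups (helper47)

`torO`, `To.map`.
-/

set_option autoImplicit false
set_option linter.unusedSectionVars false

namespace Cfsg.Agent.N2C.Sub

open Cfsg Cfsg.Agent.DS.Cl Cfsg.Agent.DS.Cl.Fwd Module
open Cfsg.Agent.SB.Cl (IsO)
open Cfsg.Agent.N2C.Cyc
open Cfsg.Agent.N2C.Fld (TR)

theorem To.map {A B : Type} [Ring A] [StarRing A] [Ring B] [StarRing B] {e : A ≃+* B} (he : Size.SI e) {u : A} {N : ℕ}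
    (h : To u N) : To (e u) N := by
  have h1 : ∀ x, e x ∈ Subring.centralizer {e u} ↔ x ∈ Subring.centralizer {u} := fun x =>
    ⟨fun hx _ hy => e.injective (by rw [hy, map_mul, map_mul]; exact hx _ rfl), fun hx _ hy => by
      rw [hy, ← map_mul, ← map_mul, hx u rfl]⟩
  refine ⟨⟨fun x hx y hy => ?_, fun x hx => ?_, fun x hx k k0 => ?_, fun x hx k k0 => ?_⟩,
    fun k => h.ne (e.injective (by rw [he, k])), le_trans (le_of_eq (Nat.card_congr (e.toEquiv.subtypeEquiv fun x => ?_)).symm)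
      h.card⟩
  · obtain ⟨x, rfl⟩ := e.surjective x
    obtain ⟨y, rfl⟩ := e.surjective y
    rw [← map_mul, ← map_mul, h.tr.comm x ((h1 x).1 hx) y ((h1 y).1 hy)]
  · obtain ⟨x, rfl⟩ := e.surjective x
    rw [← he]
    exact (h1 _).2 (h.tr.star_mem x ((h1 x).1 hx))
  · obtain ⟨x, rfl⟩ := e.surjective x
    exact (h.tr.sym x ((h1 x).1 hx) (e.injective (by rw [he, k])) fun k1 => k0 (by rw [k1, map_zero])).map e
  · obtain ⟨x, rfl⟩ := e.surjective x
    exact (h.tr.skew x ((h1 x).1 hx) (e.injective (by rw [he, k, map_neg])) fun k1 => k0 (by rw [k1, map_zero])).map e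
  · change _ ↔ e x * e u = e u * e x
    rw [← map_mul, ← map_mul, e.injective.eq_iff]

variable {K V : Type} [Field K] [Fintype K] [AddCommGroup V] [Module K V] [Finite V] {h : HF K V} {F : FR h.EB}
  {Q : QuadraticForm K V}

namespace TorT

theorem sq_mem (o : IsO h F Q) (h5 : 5 ≤ finrank K V) {v : h.EBˣ} (hv : v ∈ F.Iso) : v * v ∈ I0 F := by
  have : Module.Finite K V := Module.Finite.of_finite
  have g := LieClassical.OrthFinite.good_of_finite (nondeg_of_O o) h5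
  rw [← Subgroup.mem_map_iff_mem (f := (unE h).toMonoidHom) (unE h).injective, Subgroup.map_commutator, map_Iso_O o,
    g.commutator_eq_E, map_mul]
  exact H875.KB.sq_mem_E g ((map_Iso_O o).le ⟨v, hv, rfl⟩)

theorem mem_I0_of_odd (o : IsO h F Q) (h5 : 5 ≤ finrank K V) {u : h.EBˣ} (hu : u ∈ F.Iso) {s : ℕ} (hs : Odd s)
    (h1 : u ^ s = 1) : u ∈ I0 F := by
  obtain ⟨t, rfl⟩ := hs
  have h2 := sq_mem o h5 (pow_mem hu (t + 1))
  rwa [← pow_add, show t + 1 + (t + 1) = 2 * t + 1 + 1 by ring, pow_succ, h1, one_mul] at h2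

theorem plus (o : IsO h F Q) (h6 : 6 ≤ finrank K V) (hP : H955.IsPlus Q) :
    ∃ u ∈ I0 F, To (u : h.EB) (Fintype.card K ^ finrank K V) := by
  have : Nontrivial V := Module.nontrivial_of_finrank_pos (R := K) (by omega)
  obtain ⟨ε, h1, h2, hL⟩ := Fld.eps_plus o hP
  obtain ⟨L, _, _, _, _, _, m, a1, a2, a3⟩ := FldSp.exists_split (E := K) o.1 h1 h2 fun z v => map_smul _ z v
  obtain ⟨g, g0, hg⟩ := FldSp.split_gen (K := K) (L := L) (r := 2) (by omega) (Or.inl rfl)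
  have b1 := m.uni (g := (g, g⁻¹)) (by rw [a2, Prod.mk_mul_mk, mul_inv_cancel₀ g0, inv_mul_cancel₀ g0]; rfl)
  have b2 : ε = m.j (1, 0) := h.ap_ext fun v => by simpa using (a3 1 v).symm
  have b3 : ((mkU _ b1 * mkU _ b1 : h.EBˣ) : h.EB) = m.j ((g, g⁻¹) ^ 2) := by rw [sq, map_mul]; rfl
  have b4 : Subring.centralizer {m.j ((g, g⁻¹) ^ 2)} = m.j.range := le_antisymm (fun x hx => m.mem hg (hx _ rfl)) (by
    rintro _ ⟨x, rfl⟩ _ rfl
    rw [← map_mul, ← map_mul, mul_comm])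
  refine ⟨_, sq_mem o (by omega) (Fld.mem_Iso_of hL (v := mkU _ b1) b1 ?_), ?_⟩
  · rw [mkU_val, b2, ← map_mul, mul_comm, map_mul, mul_assoc, b1, mul_one, sub_self]
    exact zero_mem _
  rw [b3]
  refine ⟨b4 ▸ m.tr_split a2, fun e => ?_, ?_⟩
  · rw [m.star_j, Prod.pow_mk, a2] at e
    have b5 : Algebra.adjoin K {((g, g⁻¹) : L × L) ^ 2} ≤ AlgHom.equalizer (AlgHom.fst K L L) (AlgHom.snd K L L) :=
      Algebra.adjoin_le (Set.singleton_subset_iff.2 (congrArg Prod.snd (m.inj e)))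
    exact one_ne_zero (b5 (hg.ge (Algebra.mem_top (x := ((1, 0) : L × L)))))
  · rw [← a1, two_mul, pow_add, ← card_V, ← Nat.card_prod]
    refine Nat.card_le_card_of_surjective (fun x => ⟨m.j x, (b4.ge ⟨x, rfl⟩ _ rfl).symm⟩) fun x => ?_
    obtain ⟨y, hy⟩ := m.mem hg x.2.symm
    exact ⟨y, Subtype.ext hy⟩

theorem minus (o : IsO h F Q) {m : ℕ} (hm : finrank K V = 2 * m) (h3 : 3 ≤ m) (h6 : ¬ (Fintype.card K = 2 ∧ m = 3))
    (hP : ¬ H955.IsPlus Q) : ∃ u ∈ I0 F, To (u : h.EB) (Fintype.card K ^ finrank K V) := by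
  have : Nontrivial V := Module.nontrivial_of_finrank_pos (R := K) (by omega)
  obtain ⟨s, hs⟩ := H689.exists_ppd (q := Nat.card K) (k := finrank K V) Finite.one_lt_card (by omega)
    (by rw [Nat.card_eq_fintype_card]; omega)
  have : Fact s.Prime := ⟨hs.prime⟩
  obtain ⟨⟨u, hu⟩, h1⟩ := exists_prime_orderOf_dvd_card' (G := F.Iso) s (by
    rw [card_Iso_O o, card_O_minus (nondeg_of_O o) (by omega) hm hP, oM, ← Nat.card_eq_fintype_card]
    exact (((H689.Ppd.dvd_add_one (hm ▸ hs) (by omega)).mul_left _).mul_right _).mul_left _)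
  replace h1 : orderOf u = s := (Subgroup.orderOf_coe (⟨u, hu⟩ : F.Iso)).trans h1
  have a1 : u ^ s = 1 := h1 ▸ pow_orderOf_eq_one u
  have a2 := hs.two_lt (by omega)
  have a3 : u * u ≠ 1 := fun e => by
    have := Nat.le_of_dvd two_pos (h1 ▸ orderOf_dvd_of_pow_eq_one ((sq u).trans e))
    omega
  have a4 : IrrV (h.ap u) := fun W hW => H62.PCGeo.irr (g := unE h u) hs (by rw [← map_pow, a1, map_one])
    (fun e => a3 (by rw [(unE h).map_eq_one_iff.1 e, mul_one])) hW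
  exact ⟨u, mem_I0_of_odd o (by omega) hu (hs.prime.odd_of_ne_two a2.ne') a1, Fld.tr_of_irr hu.1 a4,
    fun e => a3 (Units.ext (by have := hu.1; rwa [e] at this)), (cycV_of_irr a4).cA_le⟩

end TorT

/-- **regular torus elements** -/
theorem torO (o : IsO h F Q) (he : Even (finrank K V)) (hn : 8 ≤ finrank K V ∨ (finrank K V = 6 ∧ Odd (Fintype.card K))) :
    ∃ u ∈ I0 F, To (u : h.EB) (Fintype.card K ^ finrank K V) := by
  by_cases hP : H955.IsPlus Q
  · exact TorT.plus o (by omega) hP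
  · obtain ⟨m, hm⟩ := he
    refine TorT.minus o (hm.trans (two_mul m).symm) (by omega) (fun k => ?_) hP
    rcases hn with hn | hn
    · omega
    · exact absurd (k.1 ▸ hn.2) (by decide)

end Cfsg.Agent.N2C.Sub
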