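import Cfsg.Agent.N2.Cl.Sub.Jd
import Cfsg.Agent.N2.Cl.Sub.Tor
import Cfsg.Agent.N2.Cl.Sub.Red2

/-!
# N2 classical, classes C5 and C8 (helper89): `boxTy`, `N2C.sub`
-/

set_option autoImplicit false
set_option linter.unusedSectionVars false
set_option maxHeartbeats 400000

namespace Cfsg.Agent.N2C.Sub

open Cfsg Cfsg.Agent.DS.Cl Cfsg.Agent.DS.Cl.Fwd Module
open Cfsg.Agent.SB.Cl (IsU IsSp IsO)
open Cfsg.Agent.N2C.Cyc (I0 two_le_q nontrivial_of_dim two_ne_of_odd nondeg_of_O sc_star)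
open Cfsg.Agent.N2C.Size

section ring

variable {A B : Type} [Ring A] [StarRing A] [Ring B] [StarRing B]

theorem card_C0_sq {θ : A} (h : θ ∈ Subring.center A) (hu : IsUnit (θ - star θ)) :
    Nat.card (C0 A) ^ 2 = Nat.card (Subring.center A) := by
  obtain ⟨δ, hδ⟩ := hu.exists_left_inv
  obtain ⟨v, hv⟩ := hu
  have h1 : δ ∈ Subring.center A := by
    rw [show δ = (v⁻¹ : Aˣ) from Units.eq_inv_of_mul_eq_one_right (hv ▸ hδ)]
    exact inv_cen (hv ▸ sub_mem h (star_cen h))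
  have h2 : star δ = -δ := by
    have h2 := congrArg star hδ
    rw [star_mul, star_sub, star_star, star_one, ← neg_sub, neg_mul] at h2
    rw [← one_mul (star δ), ← hδ, mul_assoc, ← neg_eq_iff_eq_neg, ← mul_neg, h2, mul_one]
  rw [pow_two, ← Nat.card_prod]
  refine Nat.card_eq_of_bijective (fun z => ⟨z.1 + θ * z.2, add_mem z.1.2.1 (mul_mem h z.2.2.1)⟩) ⟨fun z w k => ?_, fun z => ?_⟩
  · have h3 : (z.1 : A) + θ * z.2 = w.1 + θ * w.2 := congrArg Subtype.val k
    have h4 := congrArg star h3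
    rw [star_add, star_add, star_mul, star_mul, z.1.2.2, z.2.2.2, w.1.2.2, w.2.2.2, cen_comm (star_cen h),
      cen_comm (star_cen h)] at h4
    have h5 : (z.2 : A) = w.2 := by
      rw [← one_mul (z.2 : A), ← one_mul (w.2 : A), ← hδ, mul_assoc, mul_assoc, sub_mul, sub_mul,
        ← add_sub_add_left_eq_sub _ _ (z.1 : A), h3, h4, add_sub_add_left_eq_sub]
    exact Prod.ext (Subtype.ext (by rwa [h5, add_left_inj] at h3)) (Subtype.ext h5)
  · have h3 := mul_mem h1 (sub_mem z.2 (star_cen z.2))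
    have h4 : star (δ * (z - star (z : A))) = δ * (z - star (z : A)) := by
      rw [star_mul, h2, star_sub, star_star, cen_comm (neg_mem h1), neg_mul, ← mul_neg, neg_sub]
    refine ⟨(⟨z - θ * (δ * (z - star (z : A))), sub_mem z.2 (mul_mem h h3), ?_⟩, ⟨_, h3, h4⟩), Subtype.ext (sub_add_cancel _ _)⟩
    rw [star_sub, star_mul, h4, cen_comm (star_cen h), sub_eq_sub_iff_sub_eq_sub, ← sub_mul, ← mul_assoc, cen_comm h1,
      ← neg_sub θ, mul_neg, hδ, neg_one_mul, neg_sub]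

theorem card_C0_eq (h : ∀ z ∈ Subring.center A, star z = z) : Nat.card (C0 A) = Nat.card (Subring.center A) :=
  Nat.card_congr (Equiv.subtypeEquivRight fun z => ⟨fun k => k.1, fun k => ⟨k, h z k⟩⟩)

variable {F : FR A} {e : A ≃+* B} (he : SI e) {n q : ℕ}

omit [StarRing A] [StarRing B] in
theorem card_cen_map (e : A ≃+* B) : Nat.card (Subring.center A) = Nat.card (Subring.center B) :=
  Nat.card_congr (e.toEquiv.subtypeEquiv fun _ => (mem_center_map e).symm)

include he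

theorem card_C0_map : Nat.card (C0 A) = Nat.card (C0 B) :=
  Nat.card_congr (e.toEquiv.subtypeEquiv fun x => and_congr (mem_center_map e).symm (by
    change _ ↔ star (e x) = e x
    rw [← he, e.injective.eq_iff]))

theorem jd_back (j : ∃ u ∈ (fm F he).Iso, Jd (u : B) n) : ∃ u ∈ F.Iso, Jd (u : A) n := by
  obtain ⟨v, hv, j⟩ := j
  obtain ⟨u, rfl⟩ := (Units.mapEquiv e.toMulEquiv).surjective v
  exact ⟨u, (mem_fm_Iso he).1 hv, e.symm_apply_apply u ▸ j.map e.symm⟩

theorem TyLU.back (t : TyLU (fm F he) n q) : TyLU F n q :=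
  ⟨(card_C0_map he).trans t.c0, (card_cen_map e).trans t.cen, (Nat.card_congr e.toEquiv).trans t.all,
    (card_fm_L he).symm.trans t.L, card_fm_L he ▸ card_fm_Iso he ▸ t.iso, jd_back he t.jd⟩

theorem TySp.back (t : TySp (fm F he) n q) : TySp F n q :=
  ⟨(card_C0_map he).trans t.c0, (card_cen_map e).trans t.cen, (Nat.card_congr e.toEquiv).trans t.all,
    (card_fm_L he).symm.trans t.L, card_fm_L he ▸ card_fm_Iso he ▸ t.iso, t.even, jd_back he t.jd⟩

theorem TyO.back (t : TyO (fm F he) n q) : TyO F n q :=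
  ⟨(card_C0_map he).trans t.c0, (card_cen_map e).trans t.cen, (Nat.card_congr e.toEquiv).trans t.all,
    (card_fm_L he).symm.trans t.L, AddSubgroup.ext fun x => by rw [← mem_fm_L he, t.min, he.mem_Lmin],
    card_fm_L he ▸ card_fm_Iso he ▸ t.iso, fun h => ⟨(t.jd h).1, jd_back he (t.jd h).2⟩, fun h h' => by
      obtain ⟨v, hv, j⟩ := t.tor h h'
      rw [I0, ← map_Iso, ← Subgroup.map_commutator] at hv
      obtain ⟨u, hu, rfl⟩ := hv
      exact ⟨u, hu, e.symm_apply_apply u ▸ j.map he.symm⟩⟩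

end ring

variable {K V : Type} [Field K] [Fintype K] [AddCommGroup V] [Module K V] [Finite V]

theorem card_cen_end [Nontrivial V] : Nat.card (Subring.center (End K V)) = Fintype.card K := by
  rw [← Nat.card_eq_fintype_card]
  refine (Nat.card_eq_of_bijective (fun c : K => (⟨_, P5.cen_smul (RingEquiv.refl _) c⟩ : Subring.center (End K V)))
    ⟨fun c d h => H277.FC.smul_one_inj (congrArg Subtype.val h), fun z => ?_⟩).symm
  exact (P5.exists_smul (RingEquiv.refl _) z.2).imp fun c hc => Subtype.ext hc.symm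

theorem tyL {n : ℕ} (F : FR (LR (Fin n) K)) (hn : 0 < n) : TyLU F n (Fintype.card K) := by
  have : Nontrivial (Fin n → K) := nontrivial_of_dim (K := K) (by rwa [finrank_fin_fun])
  have h1 : Nat.card (Subring.center (LR (Fin n) K)) = Fintype.card K ^ 2 := by
    rw [pow_two, ← card_cen_end (V := Fin n → K), ← card_cen_map (Matrix.toLinAlgEquiv' (n := Fin n) (R := K)).toRingEquiv,
      ← Nat.card_prod]
    exact Nat.card_congr ((Equiv.subtypeEquivRight fun _ => cen_prod).trans Equiv.subtypeProdEquivProd)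
  have h2 := SB.Tor.eps_LR (n := n) (K := K)
  refine ⟨sq_inj ((card_C0_sq h2.cen (IsUnit.of_mul_eq_one (LR.mk 1 0 - star (LR.mk 1 0)) ?_)).trans h1), h1, card_LR,
    card_L_LR F, by have := iso_le_LR F; omega, jdL F hn⟩
  rw [sub_mul, mul_sub, mul_sub, h2.idem, h2.ms, h2.sm, h2.st.idem, sub_zero, zero_sub, sub_neg_eq_add, h2.add]

variable {h : HF K V} {F : FR h.EB}

theorem tyU (hU : IsU h) (F : FR h.EB) {q : ℕ} (hq : Fintype.card K = q ^ 2) (h0 : 0 < finrank K V) :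
    TyLU F (finrank K V) q := by
  have := nontrivial_of_dim h0
  have h1 : Nat.card (Subring.center h.EB) = q ^ 2 := card_cen_end.trans hq
  obtain ⟨c, hc⟩ := hU.2
  refine ⟨sq_inj ((card_C0_sq (h.smul_mem_center c) (by rw [sc_star]; exact Cyc.sc_unit hc.symm)).trans h1), h1,
    by rw [card_EB, hq, ← pow_mul], card_L_U hU hq, ?_, jdU hU F h0⟩
  have h2 := iso_le_U (F := F) hU hq
  obtain ⟨q', h3, h4⟩ := exists_q hU
  obtain rfl := sq_inj (h4.symm.trans hq)
  nlinarith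

theorem c0_bil (hτ : ∀ c, h.τ c = c) [Nontrivial V] : Nat.card (C0 h.EB) = Fintype.card K :=
  (card_C0_eq fun z hz => by
    obtain ⟨c, rfl⟩ := P5.exists_smul (RingEquiv.refl (End K V)) hz
    exact (sc_star c).trans (by rw [hτ]; rfl)).trans card_cen_end

theorem tySp (hS : IsSp h F) (h0 : 0 < finrank K V) : TySp F (finrank K V) (Fintype.card K) :=
  have := nontrivial_of_dim h0
  ⟨c0_bil hS.1, card_cen_end, card_EB h, card_L_Sp hS, iso_le_Sp hS, even_Sp hS, jdSp hS h0⟩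

theorem tyO {Q : QuadraticForm K V} (o : IsO h F Q) (h0 : 0 < finrank K V) : TyO F (finrank K V) (Fintype.card K) :=
  have := nontrivial_of_dim h0
  ⟨c0_bil o.1, card_cen_end, card_EB h, card_L_O o, o.2.2.1, iso_le_O o h0, fun ho => ⟨Nat.odd_iff.2
    (FiniteField.odd_card_of_char_ne_two fun k => two_ne_of_odd (nondeg_of_O o) ho (by
      exact_mod_cast (ringChar.spec K 2).2 k.dvd)), jdO o ho⟩, torO o⟩

theorem boxTy : BoxTy where
  l _ _ _ _ := tyL
  u _ _ _ _ _ _ _ _ F _ hU := tyU hU F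
  sp _ _ _ _ _ _ _ _ _ := tySp
  o _ _ _ _ _ _ _ _ _ _ := tyO
  all A _ _ _ F ss := by
    rcases exists_kind ss F with ⟨K, _, _, n, e, hn, he⟩ | ⟨K, _, _, n, h, e, he, hn, k⟩
    · exact ⟨n, _, hn, two_le_q K, Or.inl ((tyL _ hn).back he)⟩
    rw [← finrank_fin_fun (n := n) K] at hn
    rcases k with ⟨k, -⟩ | k | ⟨Q, k⟩
    · obtain ⟨q, h1, h2⟩ := exists_q k
      exact ⟨_, q, hn, h1, Or.inl ((tyU k _ h2 hn).back he)⟩
    · exact ⟨_, _, hn, two_le_q K, Or.inr (Or.inl ((tySp k hn).back he))⟩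
    · exact ⟨_, _, hn, two_le_q K, Or.inr (Or.inr ((tyO k hn).back he))⟩

end Cfsg.Agent.N2C.Sub

/-- **[Sub]** -/
theorem Cfsg.Agent.N2C.sub : Cfsg.Agent.N2C.On Cfsg.Agent.N2C.pSub := Cfsg.Agent.N2C.Sub.sub_of Cfsg.Agent.N2C.Sub.boxTy
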