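import Cfsg.Agent.N2.Cl.Size

/-!
# N2 classical, classes C5 and C8 (helper89): Galois descent

`Gal φ e c` : the conjugates of the central element `c` have invertible differences.  For a stable subgroup `M`:
`|M| = |M^φ|^e`, `M` is spanned by `M^φ`, the trace is onto `M^φ`.  The fixed ring `A0 φ` is star-simple.
-/

set_option autoImplicit false
set_option linter.unusedSectionVars false
set_option maxHeartbeats 400000

namespace Cfsg.Agent.N2C.Sub

open Cfsg Cfsg.Agent.DS.Cl Finset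

theorem mat_inj {R M ι : Type*} [CommRing R] [AddCommGroup M] [Module R M] [Fintype ι] [DecidableEq ι]
    {W : Matrix ι ι R} (hW : IsUnit W.det) {x : ι → M} (h : ∀ i, ∑ j, W i j • x j = 0) (k : ι) : x k = 0 := by
  have h1 : ∑ j, (W⁻¹ * W) k j • x j = x k := by
    rw [Matrix.nonsing_inv_mul W hW]
    simp [Matrix.one_apply]
  rw [← h1]
  simp only [Matrix.mul_apply, sum_smul, mul_smul]
  rw [sum_comm]
  simp only [← smul_sum, h, smul_zero, sum_const_zero]

section ring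

variable {A : Type} [Ring A]

theorem isUnit_cen {z : Subring.center A} (h : IsUnit (z : A)) : IsUnit z := by
  obtain ⟨u, hu⟩ := h
  exact IsUnit.of_mul_eq_one ⟨(u⁻¹ : Aˣ), inv_cen (hu ▸ z.2)⟩ (Subtype.ext (by
    change (z : A) * (u⁻¹ : Aˣ) = 1
    rw [← hu, u.mul_inv]))

/-- the trace -/
def tr (φ : RingAut A) (e : ℕ) : A →+ A where
  toFun x := ∑ j : Fin e, (φ ^ (j : ℕ)) x
  map_zero' := by simp
  map_add' x y := by simp [sum_add_distrib]

theorem tr_apply (φ : RingAut A) (e : ℕ) (x : A) : tr φ e x = ∑ j : Fin e, (φ ^ (j : ℕ)) x := rfl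

/-- the fixed ring -/
def fix (φ : RingAut A) : Subring A := RingHom.eqLocus (φ : A →+* A) (RingHom.id A)

theorem mem_fix {φ : RingAut A} {x : A} : x ∈ fix φ ↔ φ x = x := Iff.rfl

theorem pow_fix {φ : RingAut A} {x : A} (h : φ x = x) (j : ℕ) : (φ ^ j) x = x :=
  (Fix {x}).pow_mem (show φ ∈ Fix {x} from fun _ k => k ▸ h) j x rfl

theorem tr_mul {φ : RingAut A} {y : A} (h : φ y = y) (e : ℕ) (x : A) : tr φ e (y * x) = y * tr φ e x := by
  simp only [tr_apply, map_mul, pow_fix h, mul_sum]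

theorem tr_mul' {φ : RingAut A} {y : A} (h : φ y = y) (e : ℕ) (x : A) : tr φ e (x * y) = tr φ e x * y := by
  simp only [tr_apply, map_mul, pow_fix h, sum_mul]

theorem map_tr {φ γ : RingAut A} (h : γ * φ = φ * γ) (e : ℕ) (x : A) : γ (tr φ e x) = tr φ e (γ x) := by
  rw [tr_apply, tr_apply, map_sum]
  exact sum_congr rfl fun j _ => by rw [← ra_mul, (Commute.pow_right h j).eq, ra_mul]

theorem tr_cen (φ : RingAut A) (e : ℕ) {x : A} (h : x ∈ Subring.center A) : tr φ e x ∈ Subring.center A :=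
  tr_apply φ e x ▸ Subring.sum_mem _ fun _ _ => map_cen _ h

/-- a primitive central element -/
structure Gal (φ : RingAut A) (e : ℕ) (c : A) : Prop where
  pos : 0 < e
  pow : φ ^ e = 1
  cen : c ∈ Subring.center A
  unit : ∀ j, 0 < j → j < e → IsUnit ((φ ^ j) c - c)

/-- a stable subgroup -/
structure St (φ : RingAut A) (c : A) (M : AddSubgroup A) : Prop where
  map : ∀ x ∈ M, φ x ∈ M
  mul : ∀ x ∈ M, c * x ∈ M

/-- the fixed points in `M` -/
abbrev fxM (φ : RingAut A) (M : AddSubgroup A) : AddSubgroup A := M ⊓ (fix φ).toAddSubgroup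

variable {φ : RingAut A} {e : ℕ} {c : A} {M : AddSubgroup A}

theorem st_top : St φ c ⊤ := ⟨fun _ _ => trivial, fun _ _ => trivial⟩

theorem St.pow_map (s : St φ c M) (j : ℕ) : ∀ x ∈ M, (φ ^ j) x ∈ M := by
  induction j with
  | zero => exact fun _ h => h
  | succ j ih => exact fun x h => by rw [pow_succ', ra_mul]; exact s.map _ (ih x h)

theorem St.pow_mul (s : St φ c M) (j : ℕ) : ∀ x ∈ M, c ^ j * x ∈ M := by
  induction j with
  | zero => exact fun _ h => by rwa [pow_zero, one_mul]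
  | succ j ih => exact fun x h => by rw [pow_succ', mul_assoc]; exact s.mul _ (ih x h)

theorem St.tr_mem (s : St φ c M) (e : ℕ) {x : A} (h : x ∈ M) : tr φ e x ∈ M :=
  tr_apply φ e x ▸ M.sum_mem fun _ _ => s.pow_map _ x h

namespace Gal

variable (g : Gal φ e c)
include g

theorem tr_fix (x : A) : φ (tr φ e x) = tr φ e x := by
  obtain ⟨k, rfl⟩ : ∃ k, e = k + 1 := ⟨e - 1, (Nat.sub_add_cancel g.pos).symm⟩
  rw [tr_apply, map_sum]
  conv_rhs => rw [Fin.sum_univ_succ, add_comm]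
  rw [Fin.sum_univ_castSucc]
  congr 1
  · exact sum_congr rfl fun j _ => by rw [← ra_mul, ← pow_succ']; rfl
  · rw [← ra_mul, ← pow_succ', Fin.val_last, g.pow]; rfl

theorem det : IsUnit (Matrix.vandermonde fun j : Fin e =>
    (⟨(φ ^ (j : ℕ)) c, map_cen _ g.cen⟩ : Subring.center A)).det := by
  rw [Matrix.det_vandermonde]
  refine IsUnit.prod_iff.2 fun i _ => IsUnit.prod_iff.2 fun j hj => isUnit_cen ?_
  have h1 : (i : ℕ) < j := Fin.lt_def.1 (mem_Ioi.1 hj)
  have h2 := (g.unit (j - i) (by omega) (by omega)).map (φ ^ (i : ℕ))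
  rwa [map_sub, ← ra_mul, ← pow_add, Nat.add_sub_cancel' h1.le] at h2

theorem inj1 {y : Fin e → A} (hy : ∀ i, φ (y i) = y i) (h : ∑ i : Fin e, c ^ (i : ℕ) * y i = 0) (k : Fin e) : y k = 0 :=
  mat_inj g.det (fun j => by
    have h1 := congrArg (φ ^ (j : ℕ)) h
    rw [map_sum, map_zero] at h1
    refine Eq.trans (sum_congr rfl fun i _ => ?_) h1
    rw [map_mul, map_pow, pow_fix (hy i)]
    rfl) k

theorem inj2 {x : A} (h : ∀ i : Fin e, tr φ e (c ^ (i : ℕ) * x) = 0) : x = 0 :=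
  mat_inj (x := fun j : Fin e => (φ ^ (j : ℕ)) x) (W := (Matrix.vandermonde fun j : Fin e =>
    (⟨(φ ^ (j : ℕ)) c, map_cen _ g.cen⟩ : Subring.center A)).transpose) (by rw [Matrix.det_transpose]; exact g.det) (fun i => by
    refine Eq.trans (sum_congr rfl fun j _ => ?_) (h i)
    rw [map_mul, map_pow]
    rfl) ⟨0, g.pos⟩

variable [Finite A] (s : St φ c M)
include s

theorem bij : (Function.Bijective fun y : Fin e → fxM φ M =>
      (⟨∑ i : Fin e, c ^ (i : ℕ) * y i, M.sum_mem fun i _ => s.pow_mul _ _ (y i).2.1⟩ : M)) ∧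
    Function.Bijective fun (x : M) (i : Fin e) =>
      (⟨tr φ e (c ^ (i : ℕ) * x), s.tr_mem e (s.pow_mul _ _ x.2), g.tr_fix _⟩ : fxM φ M) := by
  have h1 : Function.Injective fun y : Fin e → fxM φ M =>
      (⟨∑ i : Fin e, c ^ (i : ℕ) * y i, M.sum_mem fun i _ => s.pow_mul _ _ (y i).2.1⟩ : M) := fun y z h =>
    funext fun k => Subtype.ext (sub_eq_zero.1 (g.inj1 (y := fun i => (y i : A) - z i) (fun i => (y i - z i).2.2) (by
      simp only [mul_sub, sum_sub_distrib]
      exact sub_eq_zero.2 (congrArg Subtype.val h)) k))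
  have h2 : Function.Injective fun (x : M) (i : Fin e) =>
      (⟨tr φ e (c ^ (i : ℕ) * x), s.tr_mem e (s.pow_mul _ _ x.2), g.tr_fix _⟩ : fxM φ M) := fun x z h =>
    Subtype.ext (sub_eq_zero.1 (g.inj2 fun i => by
      rw [mul_sub, map_sub]
      exact sub_eq_zero.2 (congrArg Subtype.val (congrFun h i))))
  exact ⟨h1.bijective_of_nat_card_le (Nat.card_le_card_of_injective _ h2),
    h2.bijective_of_nat_card_le (Nat.card_le_card_of_injective _ h1)⟩

theorem card_eq : Nat.card M = Nat.card (fxM φ M) ^ e := by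
  rw [← Nat.card_eq_of_bijective _ (g.bij s).1, Nat.card_fun, Nat.card_eq_fintype_card (α := Fin e), Fintype.card_fin]

/-- `M` is spanned by its fixed points -/
theorem ind {N : AddSubgroup A} (h : ∀ (i : ℕ), ∀ y ∈ M, φ y = y → c ^ i * y ∈ N) : M ≤ N := fun x hx => by
  obtain ⟨y, hy⟩ := (g.bij s).1.2 ⟨x, hx⟩
  have h1 : ∑ i : Fin e, c ^ (i : ℕ) * y i = x := congrArg Subtype.val hy
  exact h1 ▸ N.sum_mem fun i _ => h _ _ (y i).2.1 (y i).2.2

theorem exists_tr {y : A} (h1 : y ∈ M) (h2 : φ y = y) : ∃ x ∈ M, tr φ e x = y := by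
  obtain ⟨x, hx⟩ := (g.bij s).2.2 fun _ => ⟨y, h1, h2⟩
  refine ⟨x, x.2, ?_⟩
  simpa using congrArg Subtype.val (congrFun hx ⟨0, g.pos⟩)

theorem card_ker : Nat.card ↥(M ⊓ (tr φ e).ker) = Nat.card (fxM φ M) ^ (e - 1) := by
  let f : M →+ A := (tr φ e).comp M.subtype
  have h1 : f.range = fxM φ M := AddSubgroup.ext fun y => ⟨fun ⟨x, hx⟩ => hx ▸ ⟨s.tr_mem e x.2, g.tr_fix _⟩, fun hy =>
    let ⟨x, hx, k⟩ := g.exists_tr s hy.1 hy.2; ⟨⟨x, hx⟩, k⟩⟩
  have h2 : f.ker = (M ⊓ (tr φ e).ker).addSubgroupOf M := AddSubgroup.ext fun x => ⟨fun k => ⟨x.2, k⟩, fun k => k.2⟩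
  have h3 := AddSubgroup.index_mul_card f.ker
  rw [AddSubgroup.index_ker, h1, h2, Nat.card_congr (AddSubgroup.addSubgroupOfEquivOfLe inf_le_left).toEquiv,
    g.card_eq s] at h3
  refine Nat.eq_of_mul_eq_mul_left (Nat.card_pos (α := fxM φ M)) (h3.trans ?_)
  rw [← pow_succ', Nat.sub_add_cancel g.pos]

omit s in
theorem exists_one : ∃ x ∈ Subring.center A, tr φ e x = 1 :=
  g.exists_tr (M := (Subring.center A).toAddSubgroup) ⟨fun _ => map_cen φ, fun _ => Subring.mul_mem _ g.cen⟩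
    (Subring.one_mem _) (map_one φ)

omit s in
theorem cen_of {x : A} (h : ∀ y, φ y = y → y * x = x * y) : x ∈ Subring.center A :=
  Subring.mem_center_iff.2 fun a => g.ind st_top (N := (Subring.centralizer {x}).toAddSubgroup) (fun i y _ hy => by
    rintro _ rfl
    rw [mul_assoc, h y hy, ← mul_assoc, ← mul_assoc, cen_comm (pow_mem g.cen i)]) (AddSubgroup.mem_top a) x rfl |>.symm

end Gal

end ring

variable {A : Type} [Ring A] [StarRing A] {φ : RingAut A} {e : ℕ} {c : A}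

theorem star_tr (hφ : φ ∈ SAut A) (e : ℕ) (x : A) : star (tr φ e x) = tr φ e (star x) := by
  rw [tr_apply, tr_apply, star_sum]
  exact sum_congr rfl fun j _ => ((SAut A).pow_mem hφ j x).symm

/-- the fixed ring as a block -/
def fB (hφ : φ ∈ SAut A) : Blk A := Blk.ofSubring (fix φ) fun x (hx : φ x = x) => show φ (star x) = star x by rw [hφ, hx]

variable [Finite A]

/-- the ideal generated by an ideal of the fixed ring -/
def Gal.up (g : Gal φ e c) (I : AddSubgroup A) (h : ∀ x ∈ I, ∀ a, φ a = a → a * x ∈ I) : Ideal A where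
  carrier := {x | ∀ d ∈ Subring.center A, tr φ e (d * x) ∈ I}
  add_mem' hx hy d hd := by rw [mul_add, map_add]; exact I.add_mem (hx d hd) (hy d hd)
  zero_mem' d _ := by rw [mul_zero, map_zero]; exact I.zero_mem
  smul_mem' a x hx := by
    let N : AddSubgroup A :=
      { carrier := {a | ∀ d ∈ Subring.center A, tr φ e (d * (a * x)) ∈ I}
        add_mem' := fun ha hb d hd => by rw [add_mul, mul_add, map_add]; exact I.add_mem (ha d hd) (hb d hd)
        zero_mem' := fun d _ => by rw [zero_mul, mul_zero, map_zero]; exact I.zero_mem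
        neg_mem' := fun ha d hd => by rw [neg_mul, mul_neg, map_neg]; exact I.neg_mem (ha d hd) }
    refine g.ind st_top (N := N) (fun i y _ hy d hd => ?_) (AddSubgroup.mem_top a)
    have h1 := mul_mem hd (pow_mem g.cen i)
    rw [mul_assoc, ← mul_assoc d, ← mul_assoc, ← cen_comm h1, mul_assoc, tr_mul hy]
    exact h _ (hx _ h1) y hy

omit [StarRing A] in
theorem Gal.mem_up (g : Gal φ e c) {I : AddSubgroup A} (h : ∀ x ∈ I, ∀ a, φ a = a → a * x ∈ I) {x : A} (h1 : x ∈ I)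
    (h2 : φ x = x) : x ∈ g.up I h := fun d _ => by
  rw [tr_mul' h2]
  exact h x h1 _ (g.tr_fix d)

omit [StarRing A] in
theorem Gal.one_mem (g : Gal φ e c) {I : AddSubgroup A} {h : ∀ x ∈ I, ∀ a, φ a = a → a * x ∈ I} (h1 : 1 ∈ g.up I h) :
    1 ∈ I := by
  obtain ⟨d, hd, k⟩ := g.exists_one
  have h2 := h1 d hd
  rwa [mul_one, k] at h2

/-- **the fixed ring is star-simple** -/
theorem Gal.ss (g : Gal φ e c) (ss : SS A) (hφ : φ ∈ SAut A) : SS (fB hφ).T := by
  have := ss.1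
  refine Blk.ss_of _ one_ne_zero fun I h1 h2 h3 => ?_
  have h4 : ∀ x ∈ g.up I h2, star x ∈ g.up I h2 := fun x hx d hd => by
    have h5 := h3 _ (hx _ (star_cen hd))
    rwa [star_tr hφ, star_mul, star_star, cen_comm hd] at h5
  refine (ss.eq_bot_or_top (fun x hx a => ?_) h4).imp (fun k => eq_bot_iff.2 fun x hx => ?_) fun k =>
    g.one_mem (k.ge trivial)
  · simpa using h4 _ (Ideal.mul_mem_left _ (star a) (h4 x hx))
  · exact k.le (g.mem_up h2 hx (h1 x hx))

theorem Gal.mem_center (g : Gal φ e c) (hφ : φ ∈ SAut A) {x : (fB hφ).T} :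
    x ∈ Subring.center (fB hφ).T ↔ (fB hφ).val x ∈ Subring.center A :=
  (fB hφ).mem_center_iff.trans ⟨g.cen_of, fun h y _ => cen_comm h y⟩

theorem isUnit_skew (ss : SS A) {d : A} (hc : d ∈ Subring.center A) (hs : star d = -d) (h0 : d ≠ 0) : IsUnit d := by
  by_cases h : d * d = 0
  · refine absurd ?_ h0
    have h1 := ss.nil_eq_bot (two_span_cen hc) fun x hx => by
      obtain ⟨a, rfl⟩ := Ideal.mem_span_singleton'.1 hx
      exact ⟨2, by rw [pow_two, mul_assoc, ← mul_assoc d, ← cen_comm hc a, mul_assoc, h, mul_zero, mul_zero]⟩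
    exact h1.le (Ideal.mem_span_singleton_self d)
  · exact (IsUnit.mul_iff.1 (ss.isUnit_of_cen (mul_mem hc hc) (by rw [star_mul, hs, neg_mul_neg]) h)).1

omit [Finite A] in
theorem cen_nil (ss : SS A) {d : A} (hc : d ∈ Subring.center A) (h : IsNilpotent d) : d = 0 :=
  (ss.nil_eq_bot (two_span_cen hc) fun x hx => by
    obtain ⟨a, rfl⟩ := Ideal.mem_span_singleton'.1 hx
    exact Commute.isNilpotent_mul_left (cen_comm hc a) h).le (Ideal.mem_span_singleton_self d)

/-- **field and graph-field automorphisms, graph automorphisms** -/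
theorem exists_gal (ss : SS A) (hφ : φ ∈ SAut A) (hl : φ ∉ Lin A) (hp : (orderOf φ).Prime) :
    (∃ c ∈ C0 A, Gal φ (orderOf φ) c) ∨ (∀ z ∈ Subring.center A, φ z = star z) ∧ ∃ c, Gal φ 2 c := by
  have k : ∀ x, φ x ≠ x → ∀ j, 0 < j → j < orderOf φ → (φ ^ j) x ≠ x := fun x hx j h0 h1 h => by
    obtain ⟨m, hm⟩ := exists_pow_eq_self_of_coprime (x := φ) (Nat.coprime_of_lt_prime h0.ne' h1 hp).symm
    exact hx (hm ▸ pow_fix h m)
  by_cases h : ∃ c ∈ C0 A, φ c ≠ c
  · obtain ⟨c, hc, h⟩ := h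
    exact Or.inl ⟨c, hc, hp.pos, pow_orderOf_eq_one φ, hc.1, fun j h0 h1 => ss.isUnit_of_cen
      (sub_mem (map_cen _ hc.1) hc.1) (by rw [star_sub, ← (SAut A).pow_mem hφ j, hc.2]) (sub_ne_zero.2 (k c h j h0 h1))⟩
  push Not at h
  have h1 : ∀ z ∈ Subring.center A, φ z = z ∨ φ z = star z := fun z hz => by
    have h2 := h (z + star z) ⟨add_mem hz (star_cen hz), by rw [star_add, star_star, add_comm]⟩
    have h3 := h (z * star z) ⟨mul_mem hz (star_cen hz), by rw [star_mul, star_star]⟩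
    rw [map_add, hφ] at h2
    rw [map_mul, hφ] at h3
    refine or_iff_not_imp_left.2 fun h4 => sub_eq_zero.1 ((isUnit_skew ss (sub_mem (map_cen φ hz) hz) (by
      rw [star_sub, neg_sub, sub_eq_sub_iff_add_eq_add, add_comm, h2]) (sub_ne_zero.2 h4)).mul_right_eq_zero.1 ?_)
    have h5 : (φ z - z) * (φ z - star z) = φ z * (φ z + star (φ z)) - φ z * (z + star z) +
      (z * star z - φ z * star (φ z)) + (φ z * z - z * φ z) := by noncomm_ring
    rw [h5, h2, h3, cen_comm hz]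
    simp
  obtain ⟨c, hc⟩ := not_forall.1 hl
  obtain ⟨hc, h2⟩ := Classical.not_imp.1 hc
  have h3 := (h1 c hc).resolve_left h2
  have h4 : ∀ z ∈ Subring.center A, φ z = star z := fun z hz => (h1 z hz).elim (fun h5 => by
    have h6 := (h1 _ (add_mem hz hc)).resolve_left fun h6 => h2 (by rwa [map_add, h5, add_right_inj] at h6)
    rwa [map_add, h3, star_add, add_left_inj] at h6) id
  have h5 : orderOf φ = 2 := by
    by_contra h5
    refine k c h2 2 two_pos (lt_of_le_of_ne hp.two_le (Ne.symm h5)) ?_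
    rw [pow_two, ra_mul, h3, hφ, h3, star_star]
  refine Or.inr ⟨h4, c, two_pos, h5 ▸ pow_orderOf_eq_one φ, hc, fun j h0 h1 => ?_⟩
  obtain rfl : j = 1 := by omega
  rw [pow_one]
  exact isUnit_skew ss (sub_mem (map_cen φ hc) hc) (by rw [h3, star_sub, star_star, neg_sub]) (sub_ne_zero.2 h2)

end Cfsg.Agent.N2C.Sub
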