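import Cfsg.Agent.N2.Cl.Sub.Defs

/-!
# N2 classical, classes C5 and C8 (helper89): regular unipotent isometries in all dimensions

`rg_step`, `exists_rg` are the ones of `N2/C1/Elt` (helper43) for the full isometry group.
-/

set_option autoImplicit false
set_option linter.unusedSectionVars false
set_option maxHeartbeats 400000

namespace Cfsg.Agent.N2C.Sub

open Cfsg.Agent.DS.Cl Cfsg.Agent.DS.Cl.Fwd Module Submodule Polynomial
open Cfsg.Agent.SB.Cl (IsU IsSp IsO)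
open Cfsg.Agent.TH.Cl (eich ap_eich eich_form IsU.swap IsU.tau_ne IsSp.swap)
open Cfsg.Agent.TH.Cl.Big (b_swap_zero iso_b)
open Cfsg.Agent.N2.C1 hiding rg_step exists_rg
open Cfsg.Agent.N2C.Cyc (cycV_of_minpoly two_ne_of_odd nondeg_of_O)
open Cfsg.Agent.ClassicalGeometry.InvolutiveNorm

section ring

variable {A B : Type} [Ring A] [Ring B] {n : ℕ}

theorem Jd.map (e : A ≃+* B) {u : A} (j : Jd u n) : Jd (e u) n where
  nil := by simpa only [map_pow, map_sub, map_one, map_zero] using congrArg e j.nil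
  cen x hx := by
    obtain ⟨x, rfl⟩ := e.surjective x
    obtain ⟨c, hc, y, hy, rfl⟩ := j.cen x (e.injective (by rwa [map_mul, map_mul]))
    exact ⟨e c, (Size.mem_center_map e).2 hc, e y, by rw [← map_mul, ← map_mul, hy], by simp⟩
  ne c hc h := by
    obtain ⟨c, rfl⟩ := e.surjective c
    rw [j.ne c ((Size.mem_center_map e).1 hc) (e.injective (by simpa using h)), map_zero]

theorem cen_prod {x : A × B} : x ∈ Subring.center (A × B) ↔ x.1 ∈ Subring.center A ∧ x.2 ∈ Subring.center B := by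
  rw [Subring.center_prod, Subring.mem_prod]

theorem Jd.prod {u : A} {v : B} (j : Jd u n) (k : Jd v n) : Jd ((u, v) : A × B) n where
  nil := Prod.ext j.nil k.nil
  cen x hx :=
    let ⟨c, hc, y, hy, h⟩ := j.cen x.1 (congrArg Prod.fst hx)
    let ⟨d, hd, z, hz, h'⟩ := k.cen x.2 (congrArg Prod.snd hx)
    ⟨(c, d), cen_prod.2 ⟨hc, hd⟩, (y, z), Prod.ext hy hz, Prod.ext h h'⟩
  ne _ hc h := Prod.ext (j.ne _ (cen_prod.1 hc).1 (congrArg Prod.fst h)) (k.ne _ (cen_prod.1 hc).2 (congrArg Prod.snd h))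

theorem inv_nil (u : Aˣ) (k : ℕ) : (((u⁻¹ : Aˣ) : A) - 1) ^ k = 0 ↔ ((u : A) - 1) ^ k = 0 := by
  have h : Commute ((-u⁻¹ : Aˣ) : A) (u - 1) :=
    (Commute.neg_left (Commute.units_inv_left (Commute.refl _))).sub_right (Commute.one_right _)
  rw [show ((u⁻¹ : Aˣ) : A) - 1 = (-u⁻¹ : Aˣ) * ((u : A) - 1) by simp [mul_sub, neg_add_eq_sub], h.mul_pow,
    ((-u⁻¹).isUnit.pow k).mul_right_eq_zero]

end ring

variable {K V : Type} [Field K] [Fintype K] [AddCommGroup V] [Module K V] [Finite V]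

theorem jd_end {g : End K V} (h1 : (g - 1) ^ finrank K V = 0) (h2 : (g - 1) ^ (finrank K V - 1) ≠ 0) :
    Jd g (finrank K V) := by
  have : Module.Finite K V := Module.Finite.of_finite
  have : Nontrivial V := not_subsingleton_iff_nontrivial.1 fun _ => h2 (Subsingleton.elim _ _)
  refine ⟨h1, fun x hx => ?_, fun c hc h => ?_⟩
  · obtain ⟨i, -, hi⟩ := (dvd_prime_pow prime_X _).1 (minpoly.dvd K (g - 1) (p := X ^ finrank K V) (by simpa using h1))
    have h3 : (g - 1) ^ i = 0 := by simpa using aeval_eq_zero_of_dvd_aeval_eq_zero hi.dvd (minpoly.aeval K (g - 1))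
    obtain ⟨f, rfl⟩ := (cycV_of_minpoly (g := g - 1) (by
      rw [natDegree_eq_of_degree_eq (degree_eq_degree_of_associated hi), natDegree_X_pow]
      by_contra h4
      exact h2 (pow_eq_zero_of_le (by omega) h3))).exists_poly (x := x) (by rw [mul_sub, sub_mul, hx, mul_one, one_mul])
    refine ⟨algebraMap K _ (f.coeff 0), Subring.mem_center_iff.2 fun a => (Algebra.commutes _ a).symm, aeval (g - 1) f.divX,
      (Cyc.aeval_comm (by rw [mul_sub, sub_mul, mul_one, one_mul]) _).symm, ?_⟩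
    conv_lhs => rw [← X_mul_divX_add f, map_add, map_mul, aeval_X, aeval_C, add_comm]
  · obtain ⟨a, rfl⟩ := P5.exists_smul (RingEquiv.refl _) hc
    change (a • 1 : End K V) * _ = 0 at h
    change (a • 1 : End K V) = 0
    rw [smul_mul_assoc, one_mul, smul_eq_zero] at h
    rw [h.resolve_right h2, zero_smul]

theorem ne_of_sb {T : End K V} (h : Sb T ⊤) (h0 : 0 < finrank K V) : T ^ (finrank K V - 1) ≠ 0 := fun e => by
  have : Module.Finite K V := Module.Finite.of_finite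
  have h1 := h.ker_pow (finrank K V - 1)
  rw [e, LinearMap.ker_zero, inf_idem, finrank_top] at h1
  omega

theorem jd_mat {n : ℕ} {M : Matrix (Fin n) (Fin n) K} (h1 : (M - 1) ^ n = 0) (h2 : (M - 1) ^ (n - 1) ≠ 0) : Jd M n := by
  let e := (Matrix.toLinAlgEquiv' (n := Fin n) (R := K)).toRingEquiv
  have k : ∀ i, (e M - 1) ^ i = 0 ↔ (M - 1) ^ i = 0 := fun i => by rw [← map_one e, ← map_sub, ← map_pow, map_eq_zero_iff _ e.injective]
  have h3 := (jd_end (g := e M) (by rwa [finrank_fin_fun, k]) (by rwa [finrank_fin_fun, Ne, k])).map e.symm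
  rwa [finrank_fin_fun, e.symm_apply_apply] at h3

theorem jdL {n : ℕ} (F : FR (LR (Fin n) K)) (hn : 0 < n) : ∃ u ∈ F.Iso, Jd (u : LR (Fin n) K) n := by
  obtain ⟨g, h1, h2, h3⟩ := exists_jordan (K := K) (U := Fin n → K)
  have h4 := ne_of_sb (T := g - 1) ⟨fun _ _ => trivial, ⟨_, fun v _ => by rw [h2]; rfl⟩, by rwa [inf_top_eq]⟩
    (by rwa [finrank_fin_fun])
  rw [finrank_fin_fun] at h2 h4
  obtain ⟨M, hM⟩ := (Matrix.isUnit_iff_isUnit_det (LinearMap.toMatrixAlgEquiv' g)).2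
    (IsUnit.of_mul_eq_one 1 ((mul_one _).trans ((LinearMap.det_toMatrix' g).trans h1)))
  have k : ∀ i, ((M : Matrix (Fin n) (Fin n) K) - 1) ^ i = 0 ↔ (g - 1) ^ i = 0 := fun i => by
    rw [hM, ← map_one (LinearMap.toMatrixAlgEquiv' (R := K) (n := Fin n)), ← map_sub, ← map_pow,
      map_eq_zero_iff _ (AlgEquiv.injective _)]
  have k' : ∀ i, (((M⁻¹ : GL (Fin n) K) : Matrix (Fin n) (Fin n) K).transpose - 1) ^ i = 0 ↔ (g - 1) ^ i = 0 := fun i => by
    rw [← Matrix.transpose_one, ← Matrix.transpose_sub, ← Matrix.transpose_pow, Matrix.transpose_eq_zero, inv_nil, k]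
  exact ⟨LR.gl M, mem_Iso_max (Size.L_LR F) ((LR.mem_gl _).1 ⟨M, rfl⟩),
    (jd_mat ((k _).2 h2) (mt (k _).1 h4)).prod (jd_mat ((k' _).2 h2) (mt (k' _).1 h4))⟩

variable {h : HF K V} {F : FR h.EB} {Y : Submodule K V}

variable (h F) in
/-- the Eichler transformation is an isometry -/
def EI (e t : V) (s c : K) : Prop :=
  ∃ y ∈ F.Iso, ∀ x, h.ap y x = x + h.b x e • t - (s * h.b x t + c * h.b x e) • e

theorem rg_step (n : ND h Y) {e f : V} (he : e ∈ Y) (hf : f ∈ Y) (hee : h.b e e = 0) (hfe : h.b f e = 1) {u : h.EBˣ}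
    (hu : u ∈ F.Iso) (r : Rg h u (Y ⊓ pp h (span K {e, f}))) (h0 : Y ⊓ pp h (span K {e, f}) ≠ ⊥) {s : K} (hs : s ≠ 0)
    (hE : ∀ t, h.b t e = 0 → ∃ c, EI h F e t s c) :
    ∃ y ∈ F.Iso, Rg h (y * u) Y := by
  have hfe' : h.b f e ≠ 0 := hfe ▸ one_ne_zero
  have m := nd_two hee hfe'
  have hle : span K {e, f} ≤ Y := span_le.2 (by rintro _ (rfl | rfl) <;> assumption)
  obtain ⟨Y', hY'⟩ : ∃ Y', Y' = Y ⊓ pp h (span K {e, f}) := ⟨_, rfl⟩
  have n' : ND h Y' := hY' ▸ n.rel_nd m hle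
  have sp : span K {e, f} ⊔ Y' = Y := hY' ▸ m.rel hle
  have l1 : Y' ≤ Y := hY' ▸ inf_le_left
  have o : ∀ v ∈ Y', h.b v e = 0 ∧ h.b v f = 0 := fun v hv => mem_pp_two.1 (hY' ▸ hv : v ∈ Y ⊓ _).2
  rw [← hY'] at r h0
  obtain ⟨x₀, hx₀, x0, tx⟩ := r.sb.nl.exists_ker r.sb.iv h0
  have ux : h.ap u x₀ = x₀ := sub_eq_zero.1 tx
  obtain ⟨w, hw, hwx⟩ := n'.partner hx₀ x0 1
  obtain ⟨c, y, hy, ey⟩ := hE w (o w hw).1
  have ue : h.ap u e = e := r.fix e fun v hv => b_swap_zero (o v hv).1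
  have uf : h.ap u f = f := r.fix f fun v hv => b_swap_zero (o v hv).2
  have iu : Iv (h.ap u) Y' := r.sb.iv.of_sub_one
  have k : ∀ v, (h.ap (y * u : h.EBˣ) - 1) v = (h.ap u - 1) v + h.b (h.ap u v) e • w -
      (s * h.b (h.ap u v) w + c * h.b (h.ap u v) e) • e := fun v => by
    rw [LinearMap.sub_apply, LinearMap.sub_apply, Units.val_mul, h.ap_mul, ey, End.one_apply]
    abel
  have dec : ∀ v ∈ Y, ∃ a b : K, ∃ v' ∈ Y', v = a • e + b • f + v' := fun v hv => by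
    obtain ⟨z, hz, v', hv', rfl⟩ := mem_sup.1 (sp.ge hv)
    obtain ⟨a, b, rfl⟩ := mem_span_pair.1 hz
    exact ⟨a, b, v', hv', rfl⟩
  have tu : ∀ v ∈ Y, (h.ap u - 1) v ∈ Y' := fun v hv => by
    obtain ⟨a, b, v', hv', rfl⟩ := dec v hv
    simpa [ue, uf] using r.sb.iv v' hv'
  have te : (h.ap (y * u : h.EBˣ) - 1) e = 0 := by
    rw [k, LinearMap.sub_apply, ue, hee, b_swap_zero (o w hw).1]
    simp
  have tm : ∀ v ∈ Y, (h.ap (y * u : h.EBˣ) - 1) v ∈ K ∙ e ⊔ Y' := fun v hv => by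
    rw [k]
    exact sub_mem (mem_sup_right (Y'.add_mem (tu v hv) (Y'.smul_mem _ hw)))
      (mem_sup_left (smul_mem _ _ (mem_span_singleton_self e)))
  have l2 : K ∙ e ⊔ Y' ≤ Y := sup_le ((span_singleton_le_iff_mem _ _).2 he) l1
  have z1 : ∀ v ∈ K ∙ e, (h.ap u - 1) v = 0 := fun v hv => by
    obtain ⟨a, rfl⟩ := mem_span_singleton.1 hv
    simp [ue]
  refine ⟨y, hy, fun v hv => ?_, fun v hv => l2 (tm v hv), Nl.of_map (Nl.step (U' := K ∙ e)
    ((nl_of_zero z1).sup r.sb.nl) ((iv_of_zero z1).sup r.sb.iv) (fun v hv => ?_) fun v hv => ?_) tm, ?_⟩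
  · rw [Units.val_mul, h.ap_mul, r.fix v (pp_anti l1 hv), ey, hv e he, hv w (l1 hw)]
    simp
  · obtain ⟨z, hz, v', hv', rfl⟩ := mem_sup.1 hv
    obtain ⟨a, rfl⟩ := mem_span_singleton.1 hz
    have h1 : h.b (h.ap u (a • e + v')) e = 0 := by
      rw [map_add, map_smul, ue, h.add_left, h.smul_left, hee, (o _ (iu v' hv')).1, mul_zero, add_zero]
    rw [k, h1, zero_smul, add_zero, sub_sub_cancel_left]
    exact neg_mem (smul_mem _ _ (mem_span_singleton_self e))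
  · obtain ⟨a, rfl⟩ := mem_span_singleton.1 hv
    rw [map_smul, te, smul_zero]
  · refine (finrank_mono (?_ : _ ≤ K ∙ e)).trans (TH.Cl.Big.finrank_one_le e)
    rintro v ⟨h1, hv⟩
    obtain ⟨a, b, v', hv', rfl⟩ := dec v hv
    have h2 : h.ap u (a • e + b • f + v') = a • e + b • f + h.ap u v' := by rw [map_add, map_add, map_smul, map_smul, ue, uf]
    have h3 : h.b (a • e + b • f + h.ap u v') e = b := by
      rw [h.add_left, h.add_left, h.smul_left, h.smul_left, hee, hfe, (o _ (iu v' hv')).1]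
      ring
    have h4 : h.b (a • e + b • f + h.ap u v') w = h.b (h.ap u v') w := by
      rw [h.add_left, h.add_left, h.smul_left, h.smul_left, b_swap_zero (o w hw).1, b_swap_zero (o w hw).2]
      ring
    rw [SetLike.mem_coe, LinearMap.mem_ker, k, LinearMap.sub_apply, h2, h3, h4, End.one_apply,
      add_sub_add_left_eq_sub] at h1
    have h5 := congrArg (h.b · x₀) h1
    have h6 : h.b (h.ap u v') x₀ = h.b v' x₀ := by rw [← iso_b hu v' x₀, ux]
    simp only [h.sub_left, h.add_left, h.smul_left, h6, hwx, b_swap_zero (o x₀ hx₀).1, h.zero_left] at h5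
    obtain rfl : b = 0 := by linear_combination h5
    have h7 := congrArg (h.b · f) h1
    simp only [h.sub_left, h.add_left, h.smul_left, (o _ (iu v' hv')).2, (o v' hv').2, h.zero_left] at h7
    have h8 : h.b (h.ap u v') w = 0 := by
      have h9 : s * h.b (h.ap u v') w * h.b e f = 0 := by linear_combination -h7
      exact (mul_eq_zero.1 ((mul_eq_zero.1 h9).resolve_right (h.ne_swap hfe'))).resolve_left hs
    rw [h8] at h1
    simp only [zero_smul, mul_zero, add_zero, sub_zero] at h1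
    have h9 : K ∙ x₀ = LinearMap.ker (h.ap u - 1) ⊓ Y' := eq_of_le_of_finrank_le
      ((span_singleton_le_iff_mem _ _).2 ⟨tx, hx₀⟩) (by rw [finrank_span_singleton x0]; exact r.sb.ker)
    obtain ⟨t, rfl⟩ := mem_span_singleton.1 (h9.ge ⟨h1, hv'⟩)
    rw [map_smul, ux, h.smul_left] at h8
    rw [(mul_eq_zero.1 h8).resolve_right (h.ne_swap (hwx ▸ one_ne_zero))]
    simpa using smul_mem _ a (mem_span_singleton_self e)

theorem exists_jd {s : K} (hs : s ≠ 0)
    (hS : ∀ Y, ND h Y → 3 ≤ finrank K Y → ∃ e ∈ Y, e ≠ 0 ∧ h.b e e = 0 ∧ ∀ t, h.b t e = 0 → ∃ c, EI h F e t s c)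
    {m : ℕ} (hm : 1 ≤ m) (base : ∀ Y, ND h Y → finrank K Y = m → ∃ u ∈ F.Iso, Rg h u Y) {i : ℕ}
    (hi : finrank K V = m + 2 * i) : ∃ u ∈ F.Iso, Jd (u : h.EB) (finrank K V) := by
  have : Module.Finite K V := Module.Finite.of_finite
  have k : ∀ i Y, ND h Y → finrank K Y = m + 2 * i → ∃ u ∈ F.Iso, Rg h u Y := fun i => by
    induction i with
    | zero => exact base
    | succ i ih =>
      intro Y n d
      obtain ⟨e, he, h0, hee, hE⟩ := hS Y n (by omega)
      obtain ⟨f, hf, hfe⟩ := n.partner he h0 1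
      have m' := nd_two hee (hfe ▸ one_ne_zero)
      have hle : span K {e, f} ≤ Y := span_le.2 (by rintro _ (rfl | rfl) <;> assumption)
      have d' := m'.rel_dim hle
      rw [dim_two hee (hfe ▸ one_ne_zero)] at d'
      obtain ⟨u, hu, r⟩ := ih _ (n.rel_nd m' hle) (by omega)
      obtain ⟨y, hy, r'⟩ := rg_step n he hf hee hfe hu r (fun e => by rw [e, finrank_bot] at d'; omega) hs hE
      exact ⟨_, mul_mem hy hu, r'⟩
  obtain ⟨u, hu, r⟩ := k i ⊤ nd_top (by rwa [finrank_top])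
  exact ⟨u, hu, jd_end (g := h.ap u) (LinearMap.ext fun _ => r.sb.nl.fin r.sb.iv (finrank_top K V).le trivial)
    (ne_of_sb r.sb (by omega))⟩

theorem EI.rg {e : V} {s c : K} (k : EI h F e 0 s c) (n : ND h Y) (d : finrank K Y = 2) (hc : c ≠ 0) (he : e ∈ Y) (h0 : e ≠ 0)
    (h1 : h.b e e = 0) : ∃ u ∈ F.Iso, Rg h u Y :=
  let ⟨r, hr, k⟩ := k
  ⟨r, hr, rg_two n d hc he h0 h1 fun x => by rw [k, h.zero_right, smul_zero, add_zero, mul_zero, zero_add]⟩

theorem jdU (hU : IsU h) (F : FR h.EB) (h0 : 0 < finrank K V) : ∃ u ∈ F.Iso, Jd (u : h.EB) (finrank K V) := by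
  have k : ∀ e t c, h.b e e = 0 → h.b t e = 0 → h.τ c + c = h.b t t → EI h F e t 1 c := fun e t c he ht hc =>
    ⟨SB.Tor.isoU h _ (eich_form (fun u v => by rw [one_mul, IsU.swap hU]) (one_mul 1) (map_one _) he ht
      (by rwa [one_mul])), mem_Iso_max (Size.L_eq_U hU F).1 (SB.Tor.isoU_ms _ _ _), ap_eich e t 1 c⟩
  have main := fun (m : ℕ) hm base i => exists_jd (F := F) one_ne_zero (fun Y n d => by
    obtain ⟨e, he, h0, h1⟩ := u_iso hU n (by omega)
    exact ⟨e, he, h0, h1, fun t ht => (exists_add_sigma_eq (IsU.tau_ne hU) h.τ_τ (SB.Tor.tau_self hU.1 t)).imp fun c hc =>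
      k e t c h1 ht (by rw [add_comm, hc])⟩) (m := m) hm base (i := i)
  obtain ⟨i, hi | hi⟩ : ∃ i, finrank K V = 1 + 2 * i ∨ finrank K V = 2 + 2 * i := ⟨(finrank K V - 1) / 2, by omega⟩
  · exact main 1 le_rfl (fun Y' _ d => ⟨1, one_mem _, rg_one d⟩) i hi
  · refine main 2 (by omega) (fun Y' n d => ?_) i hi
    obtain ⟨e, he, h0, h1⟩ := u_iso hU n d.ge
    obtain ⟨c, hc⟩ := exists_sigma_ne (IsU.tau_ne hU)
    exact (k e 0 (c - h.τ c) h1 (h.zero_left e) (by rw [map_sub, h.τ_τ, h.zero_left]; ring)).rg n d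
      (sub_ne_zero.2 hc.symm) he h0 h1

theorem even_Sp (hS : IsSp h F) : Even (finrank K V) := sp_even hS.2.1 _ ⊤ nd_top (finrank_top K V)

theorem jdSp (hS : IsSp h F) (h0 : 0 < finrank K V) : ∃ u ∈ F.Iso, Jd (u : h.EB) (finrank K V) := by
  have k : ∀ e t c, h.b t e = 0 → EI h F e t (-1) c := fun e t c ht =>
    ⟨SB.Tor.isoU h _ (eich_form (fun u v => by rw [hS.1, IsSp.swap hS, neg_one_mul]) (by ring) (hS.1 _)
      (hS.2.1 e) ht (by rw [hS.1, hS.2.1]; ring)), mem_Iso_max hS.2.2 (SB.Tor.isoU_ms _ _ _), ap_eich e t (-1) c⟩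
  obtain ⟨i, hi⟩ := even_Sp hS
  refine exists_jd (neg_ne_zero.2 one_ne_zero) (fun Y n d => ?_) (m := 2) (by omega) (fun Y n d => ?_) (i := i - 1) (by omega) <;>
    obtain ⟨e, he, h0⟩ := exists_mem_ne (X := Y) (by omega)
  · exact ⟨e, he, h0, hS.2.1 e, fun t ht => ⟨0, k e t 0 ht⟩⟩
  · exact (k e 0 1 (h.zero_left e)).rg n d one_ne_zero he h0 (hS.2.1 e)

theorem jdO {Q : QuadraticForm K V} (o : IsO h F Q) (ho : Odd (finrank K V)) : ∃ u ∈ F.Iso, Jd (u : h.EB) (finrank K V) := by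
  have : Module.Finite K V := Module.Finite.of_finite
  have h2 := two_ne_of_odd (nondeg_of_O o) ho
  have h3 : ∀ v, h.b v v = 2 * Q v := fun v => by rw [o.2.1, QuadraticMap.polar_self, nsmul_eq_mul, Nat.cast_two]
  obtain ⟨i, hi⟩ := ho
  refine exists_jd one_ne_zero (fun Y n d => ?_) le_rfl (fun Y' _ d => ⟨1, one_mem _, rg_one d⟩) (i := i) (by omega)
  obtain ⟨e, h0, h1⟩ := ClassicalGeometry.SiegelGen.exists_singular h2 (Q.comp Y.subtype) d
  have h4 : h.b e e = 0 := by rw [h3, show Q e = 0 from h1, mul_zero]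
  refine ⟨e, e.2, fun k => h0 (Subtype.ext k), h4, fun t ht => ⟨Q t, ?_⟩⟩
  have h5 := eich_form (c := Q t) (fun u v => by rw [one_mul, o.1, o.2.1, o.2.1, QuadraticMap.polar_comm]) (one_mul 1)
    (map_one _) h4 ht (by rw [o.1, h3]; ring)
  exact ⟨SB.Tor.isoU h _ h5, (SB.Tor.mem_Iso_O o _).2 fun v => mul_left_cancel₀ h2 (by rw [← h3, ← h3]; exact h5 v v),
    ap_eich _ t 1 _⟩

end Cfsg.Agent.N2C.Sub
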