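import Cfsg.Agent.N2.Cl.Size
import Cfsg.Agent.N2.Cl.Fld.O
import Cfsg.Agent.N2.C1.U
import Cfsg.Agent.N2.C1.L

/-!
# N2 classical, classes C5 and C8 (helper89): the numerical types of a form ring

`Jd u n` one unipotent Jordan block, `To u N` regular element of a torus, `TyLU`, `TySp`, `TyO`, the box `BoxTy`.
-/

set_option autoImplicit false

namespace Cfsg.Agent.N2C.Sub

open Cfsg Cfsg.Agent.DS.Cl Cfsg.Agent.DS.Cl.Fwd Module
open Cfsg.Agent.SB.Cl (IsU IsSp IsO)
open Cfsg.Agent.N2C.Cyc (I0 cA)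
open Cfsg.Agent.N2C.Fld (TR)

section defs

variable {A : Type} [Ring A] [StarRing A]

omit [StarRing A] in
/-- one unipotent Jordan block of size `n` -/
structure Jd (u : A) (n : ℕ) : Prop where
  nil : (u - 1) ^ n = 0
  cen : ∀ x, x * u = u * x → ∃ c ∈ Subring.center A, ∃ y, y * u = u * y ∧ x = c + (u - 1) * y
  ne : ∀ c ∈ Subring.center A, c * (u - 1) ^ (n - 1) = 0 → c = 0

/-- a regular element of a split or anisotropic maximal torus -/
structure To (u : A) (N : ℕ) : Prop where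
  tr : TR (Subring.centralizer {u})
  ne : star u ≠ u
  card : cA u ≤ N

/-- linear or unitary -/
structure TyLU (F : FR A) (n q : ℕ) : Prop where
  c0 : Nat.card (C0 A) = q
  cen : Nat.card (Subring.center A) = q ^ 2
  all : Nat.card A = q ^ (2 * n ^ 2)
  L : Nat.card F.L = q ^ (n ^ 2)
  iso : 2 * Nat.card F.Iso ≤ 3 * Nat.card F.L
  jd : ∃ u ∈ F.Iso, Jd (u : A) n

/-- symplectic -/
structure TySp (F : FR A) (n q : ℕ) : Prop where
  c0 : Nat.card (C0 A) = q
  cen : Nat.card (Subring.center A) = q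
  all : Nat.card A = q ^ (n ^ 2)
  L : Nat.card F.L = q ^ (n + 1).choose 2
  iso : Nat.card F.Iso ≤ Nat.card F.L
  even : Even n
  jd : ∃ u ∈ F.Iso, Jd (u : A) n

/-- orthogonal -/
structure TyO (F : FR A) (n q : ℕ) : Prop where
  c0 : Nat.card (C0 A) = q
  cen : Nat.card (Subring.center A) = q
  all : Nat.card A = q ^ (n ^ 2)
  L : Nat.card F.L = q ^ n.choose 2
  min : F.L = Lmin A
  iso : n ≠ 2 → Nat.card F.Iso ≤ 2 * Nat.card F.L
  jd : Odd n → Odd q ∧ ∃ u ∈ F.Iso, Jd (u : A) n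
  tor : Even n → 8 ≤ n ∨ (n = 6 ∧ Odd q) → ∃ u ∈ I0 F, To (u : A) (q ^ n)

end defs

/-- the types of the four models, and of every form ring -/
structure BoxTy : Prop where
  l : ∀ (K : Type) [Field K] [Fintype K] (n : ℕ) (F : FR (LR (Fin n) K)), 0 < n → TyLU F n (Fintype.card K)
  u : ∀ (K V : Type) [Field K] [Fintype K] [AddCommGroup V] [Module K V] [Finite V] (h : HF K V) (F : FR h.EB) (q : ℕ),
    IsU h → Fintype.card K = q ^ 2 → 0 < finrank K V → TyLU F (finrank K V) q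
  sp : ∀ (K V : Type) [Field K] [Fintype K] [AddCommGroup V] [Module K V] [Finite V] (h : HF K V) (F : FR h.EB),
    IsSp h F → 0 < finrank K V → TySp F (finrank K V) (Fintype.card K)
  o : ∀ (K V : Type) [Field K] [Fintype K] [AddCommGroup V] [Module K V] [Finite V] (h : HF K V) (F : FR h.EB)
    (Q : QuadraticForm K V), IsO h F Q → 0 < finrank K V → TyO F (finrank K V) (Fintype.card K)
  all : ∀ (A : Type) [Ring A] [StarRing A] [Finite A] (F : FR A), SS A →
    ∃ n q, 0 < n ∧ 2 ≤ q ∧ (TyLU F n q ∨ TySp F n q ∨ TyO F n q)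

end Cfsg.Agent.N2C.Sub
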