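import Cfsg.Agent.N2.Cl.Sub.Defs
import Cfsg.Agent.N2.Cl.Sub.Desc

/-!
# N2 classical, classes C5 and C8 (helper89): fixed points of a regular unipotent element

`fx_le_tw` : the fixed cosets of `C_S(φ)` are twisted elements of the centraliser.  `Tp`, `lv` : the filtration of the
centraliser `C[ν]` by the powers of `ν`.  `fx_field`, `fx_graph` : the two bounds.
-/

set_option autoImplicit false
set_option linter.unusedSectionVars false
set_option maxHeartbeats 400000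

namespace Cfsg.Agent.N2C.Sub

open Cfsg Cfsg.Agent.DS.Cl Finset
open Cfsg.Agent.FP3 (fx)
open Cfsg.Agent.N2C.Cyc

theorem fx_le_tw {G : Type*} [Group G] [Finite G] {S : Subgroup G} {φ : G} (hφ : ∀ s ∈ S, φ * s * φ⁻¹ ∈ S) {a : S}
    (ha : φ * a = a * φ) {e : ℕ} (he : φ ^ e = 1) : fx ((Subgroup.centralizer {φ}).subgroupOf S) a ≤
      Nat.card {x : S // (x : G) * a = a * x ∧ ((x : G) * φ) ^ e = 1} := by
  refine Nat.card_le_card_of_injective (fun z => ⟨⟨z.1.out * (φ * z.1.out⁻¹ * φ⁻¹), mul_mem z.1.out.2 (hφ _ z.1.out⁻¹.2)⟩,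
    ?_, ?_⟩) fun z z' h => Subtype.ext ?_
  · have h1 := (N2.smul_mk_iff _ a z.1.out).1 (by rw [QuotientGroup.out_eq']; exact z.2)
    have h2 : φ * ((z.1.out : G)⁻¹ * a * z.1.out) = (z.1.out : G)⁻¹ * a * z.1.out * φ := h1 φ rfl
    change (z.1.out : G) * (φ * (z.1.out : G)⁻¹ * φ⁻¹) * a = a * (z.1.out * (φ * (z.1.out : G)⁻¹ * φ⁻¹))
    generalize (z.1.out : G) = t at h2
    calc t * (φ * t⁻¹ * φ⁻¹) * a = t * (φ * (t⁻¹ * a * t)) * t⁻¹ * (a : G)⁻¹ * φ⁻¹ * a := by group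
      _ = a * (t * (φ * t⁻¹)) * ((φ * a)⁻¹ * a) := by rw [h2]; group
      _ = _ := by rw [ha]; group
  · change ((z.1.out : G) * (φ * (z.1.out : G)⁻¹ * φ⁻¹) * φ) ^ e = 1
    rw [show ∀ t : G, t * (φ * t⁻¹ * φ⁻¹) * φ = t * φ * t⁻¹ from fun t => by group, conj_pow, he, mul_one, mul_inv_cancel]
  · have h1 : (z.1.out : G) * (φ * (z.1.out : G)⁻¹ * φ⁻¹) = z'.1.out * (φ * (z'.1.out : G)⁻¹ * φ⁻¹) :=
      congrArg (fun x => (x.1 : G)) h
    rw [← QuotientGroup.out_eq' z.1, ← QuotientGroup.out_eq' z'.1, QuotientGroup.eq]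
    refine Subgroup.mem_centralizer_singleton_iff.2 ?_
    change (z.1.out : G)⁻¹ * z'.1.out * φ = φ * ((z.1.out : G)⁻¹ * z'.1.out)
    generalize (z.1.out : G) = t, (z'.1.out : G) = t' at h1
    calc _ = t⁻¹ * (t' * (φ * t'⁻¹ * φ⁻¹)) * φ * t' * φ⁻¹ * φ := by group
      _ = _ := by rw [← h1]; group

section comm

variable {R : Type*} [CommRing R] {ν : R} {σ : R →+* R} {C : Subring R} {n : ℕ} {Y : Set R}

/-- a truncated polynomial ring -/
structure Tp (ν : R) (C : Subring R) (n : ℕ) : Prop where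
  nil : ν ^ n = 0
  dec : ∀ x, ∃ c ∈ C, ∃ y, x = c + ν * y
  ne : ∀ c ∈ C, c * ν ^ (n - 1) = 0 → c = 0

theorem Tp.cancel (h : Tp ν C n) {c y : R} (hc : c ∈ C) {i : ℕ} (hi : i < n) (k : ν ^ i * (c + ν * y) = 0) : c = 0 := by
  obtain ⟨j, rfl⟩ := Nat.exists_eq_add_of_lt hi
  exact h.ne c hc (by
    rw [Nat.add_sub_cancel]
    linear_combination ν ^ j * k - y * h.nil)

/-- the number of elements of level `i` -/
noncomputable def lv (Y : Set R) (ν : R) (i : ℕ) : ℕ := Nat.card {w // w ∈ Y ∧ ∃ y, w = 1 + ν ^ i * y}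

theorem lv_top [Finite R] (h : ν ^ n = 0) : lv Y ν n ≤ 1 :=
  Finite.card_le_one_iff_subsingleton.2 ⟨fun ⟨_, _, _, h1⟩ ⟨_, _, _, h2⟩ => Subtype.ext (h1.trans (Eq.trans (by
    rw [h, zero_mul, zero_mul]) h2.symm))⟩

theorem lv_step [Finite R] (h : Tp ν C n) (h1 : ∀ w ∈ Y, w * σ w = 1) (h2 : ∀ w ∈ Y, ∀ w' ∈ Y, w * σ w' ∈ Y) {i : ℕ}
    {T : Set R} (hT : ∀ w ∈ Y, ∀ t ∈ C, ∀ y, w = 1 + ν ^ i * (t + ν * y) → t ∈ T) :
    lv Y ν i ≤ Nat.card T * lv Y ν (i + 1) := by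
  have k : ∀ w : {w // w ∈ Y ∧ ∃ y, w = 1 + ν ^ i * y}, ∃ (t : T) (y : R), w.1 = 1 + ν ^ i * (t + ν * y) := fun w => by
    obtain ⟨y, hy⟩ := w.2.2
    obtain ⟨t, ht, z, rfl⟩ := h.dec y
    exact ⟨⟨t, hT _ w.2.1 t ht z hy⟩, z, hy⟩
  choose t y hy using k
  rcases isEmpty_or_nonempty {w // w ∈ Y ∧ ∃ y, w = 1 + ν ^ i * y} with h0 | h0
  · exact (Nat.card_of_isEmpty (α := {w // w ∈ Y ∧ ∃ y, w = 1 + ν ^ i * y})).le.trans (Nat.zero_le _)
  rw [lv, lv, ← Nat.card_prod]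
  refine Nat.card_le_card_of_injective (fun w => (t w, ⟨w.1 * σ (Function.invFun t (t w)).1, h2 _ w.2.1 _ (Function.invFun t (t w)).2.1,
    (y w - y (Function.invFun t (t w))) * σ (Function.invFun t (t w)).1, ?_⟩)) fun w w' k => Subtype.ext ?_
  · have h3 := hy (Function.invFun t (t w))
    rw [Function.invFun_eq (f := t) ⟨w, rfl⟩] at h3
    linear_combination (hy w - h3) * σ (Function.invFun t (t w)).1 + h1 _ (Function.invFun t (t w)).2.1
  · have h3 : t w = t w' := congrArg Prod.fst k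
    have h4 : w.1 * σ (Function.invFun t (t w)).1 = w'.1 * σ (Function.invFun t (t w')).1 := congrArg (fun z => z.2.1) k
    rw [h3] at h4
    linear_combination (Function.invFun t (t w')).1 * h4 - (w.1 - w'.1) * h1 _ (Function.invFun t (t w')).2.1

theorem lv_le [Finite R] (h : ν ^ n = 0) {a c : ℕ} (hc : ∀ i, a ≤ i → i < n → lv Y ν i ≤ c * lv Y ν (i + 1)) (k : ℕ) :
    ∀ i, a ≤ i → i + k = n → lv Y ν i ≤ c ^ k := by
  induction k with
  | zero => exact fun i _ hi => lv_top (by rwa [← hi] at h)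
  | succ k ih =>
    exact fun i h1 h2 => (hc i h1 (by omega)).trans (pow_succ' c k ▸ Nat.mul_le_mul_left _ (ih _ (by omega) (by omega)))

theorem sg_pow (hσ : (1 + ν) * (1 + σ ν) = 1) (i : ℕ) : ∃ k, σ ν ^ i = ν ^ i * ((-1) ^ i * (1 - i * ν) + ν ^ 2 * k) := by
  induction i with
  | zero => exact ⟨0, by simp⟩
  | succ i ih =>
    obtain ⟨k, hk⟩ := ih
    refine ⟨(-1) ^ i * (-i - (1 + σ ν) * (1 - i * ν)) - k * (1 + σ ν), ?_⟩
    rw [pow_succ, hk]
    push_cast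
    linear_combination ν ^ i * ((-1) ^ i * (1 - i * ν) * (1 - ν + ν ^ 2) + ν ^ 2 * k) * hσ

/-- unitary elements -/
theorem Tp.uni (h : Tp ν C n) (hσ : (1 + ν) * (1 + σ ν) = 1) (hC : ∀ c ∈ C, σ c ∈ C) {i : ℕ} (h0 : 0 < i) (hi : i < n)
    {t y : R} (ht : t ∈ C) (k : (1 + ν ^ i * (t + ν * y)) * σ (1 + ν ^ i * (t + ν * y)) = 1) :
    t + (-1) ^ i * σ t = 0 := by
  obtain ⟨z, hz⟩ := sg_pow hσ i
  simp only [map_add, map_mul, map_one, map_pow, hz] at k
  obtain ⟨j, hj⟩ : ∃ j, ν ^ i = ν * j := dvd_pow_self ν h0.ne'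
  refine h.cancel (add_mem ht (mul_mem (pow_mem (neg_mem (one_mem C)) i) (hC t ht))) hi
    (y := y + (-(-1) ^ i * i + ν * z) * σ t - ((-1) ^ i * (1 - i * ν) + ν ^ 2 * z) * (1 + σ ν) * σ y +
      j * (t + ν * y) * ((-1) ^ i * (1 - i * ν) + ν ^ 2 * z) * (σ t + σ ν * σ y)) ?_
  rw [hj] at k ⊢
  linear_combination k - ν * j * ((-1) ^ i * (1 - i * ν) + ν ^ 2 * z) * σ y * hσ

theorem prod_lv {ι : Type*} (s : Finset ι) {i : ℕ} (h0 : 0 < i) (t y : ι → R) :
    ∃ z, ∏ j ∈ s, (1 + ν ^ i * (t j + ν * y j)) = 1 + ν ^ i * (∑ j ∈ s, t j + ν * z) := by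
  classical
  obtain ⟨m, rfl⟩ := Nat.exists_eq_add_of_lt h0
  induction s using Finset.induction_on with
  | empty => exact ⟨0, by simp⟩
  | insert a s ha ih =>
    obtain ⟨z, hz⟩ := ih
    refine ⟨y a + z + ν ^ (0 + m) * (t a + ν * y a) * (∑ j ∈ s, t j + ν * z), ?_⟩
    rw [prod_insert ha, sum_insert ha, hz]
    ring

/-- odd levels of elements fixed by the involution -/
theorem Tp.odd (h : Tp ν C n) (hσ : (1 + ν) * (1 + σ ν) = 1) (hC : ∀ c ∈ C, σ c = c) {i : ℕ} (h0 : Odd i) (hi : i + 1 < n)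
    {t y : R} (ht : t ∈ C) (k : σ (1 + ν ^ i * (t + ν * y)) = 1 + ν ^ i * (t + ν * y)) : t = 0 := by
  obtain ⟨s, hs, y, rfl⟩ := h.dec y
  obtain ⟨z, hz⟩ := sg_pow hσ i
  obtain ⟨m, hm⟩ : ∃ m, σ ν = -ν + ν ^ 2 * m := ⟨1 + σ ν, by linear_combination (1 - ν) * hσ⟩
  simp only [map_add, map_mul, map_one, map_pow, hz, hC t ht, hC s hs, h0.neg_one_pow] at k
  rw [hm] at k
  obtain ⟨W, hW⟩ : ∃ W, ν ^ i * (-(t + t) + ν * (i * t + ν * W)) = 0 := ⟨z * t - i * s - ν * z * s +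
    (-(1 - i * ν) + ν ^ 2 * z) * (m * s + (-1 + ν * m) ^ 2 * σ y) - y, by linear_combination k⟩
  have h1 := h.cancel (neg_mem (add_mem ht ht)) (by omega) hW
  have h2 := h.cancel (mul_mem (natCast_mem C i) ht) hi (y := W) (by linear_combination hW - ν ^ i * h1)
  obtain ⟨j, rfl⟩ := h0
  push_cast at h2
  linear_combination h2 + j * h1

end comm

variable {A : Type} [Ring A] [StarRing A] [Finite A] {n : ℕ}

section cn

variable {u : A}

omit [StarRing A] [Finite A] in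
theorem Jd.isCyc (j : Jd u n) : IsCyc u := fun x y hx hy => by
  have k : ∀ (i : ℕ) x, x * u = u * x → ∃ z, x * y - y * x = (u - 1) ^ i * z := fun i => by
    induction i with
    | zero => exact fun x _ => ⟨_, by rw [pow_zero, one_mul]⟩
    | succ i ih =>
      intro x hx
      obtain ⟨c, hc, x', h1, rfl⟩ := j.cen x hx
      obtain ⟨z, hz⟩ := ih x' h1
      refine ⟨z, ?_⟩
      have h2 : y * (u - 1) = (u - 1) * y := by rw [mul_sub, sub_mul, hy, mul_one, one_mul]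
      rw [pow_succ', mul_assoc, ← hz, add_mul, mul_add, cen_comm hc, ← mul_assoc y, h2]
      noncomm_ring
  obtain ⟨z, hz⟩ := k n x hx
  rwa [j.nil, zero_mul, sub_eq_zero] at hz

/-- the nilpotent part -/
def nu (h : IsCyc u) : Cn h := Cn.mk h u rfl - 1

/-- the scalars -/
def sc (h : IsCyc u) : Subring (Cn h) := (Subring.center A).comap Cn.val

/-- restriction of automorphisms -/
def rs (h : IsCyc u) {γ : RingAut A} (hγ : γ u = u) : Cn h →+* Cn h where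
  toFun x := Cn.mk h (γ (Cn.val x)) (by simpa only [map_mul, hγ] using congrArg γ x.comm)
  map_one' := Cn.val_inj (map_one γ)
  map_mul' _ _ := Cn.val_inj (map_mul γ _ _)
  map_zero' := Cn.val_inj (map_zero γ)
  map_add' _ _ := Cn.val_inj (map_add γ _ _)

theorem val_rs (h : IsCyc u) {γ : RingAut A} (hγ : γ u = u) (x : Cn h) : Cn.val (rs h hγ x) = γ (Cn.val x) := rfl

theorem rs_nu (h : IsCyc u) {γ : RingAut A} (hγ : γ u = u) : rs h hγ (nu h) = nu h :=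
  Cn.val_inj ((map_sub γ u 1).trans (by rw [hγ, map_one]; rfl))

theorem Jd.tp (j : Jd u n) : Tp (nu j.isCyc) (sc j.isCyc) n where
  nil := Cn.val_inj (by rw [map_pow, map_zero]; exact j.nil)
  dec x := let ⟨c, hc, y, h1, h2⟩ := j.cen _ x.comm
    ⟨Cn.mk _ c (cen_comm hc u).symm, hc, Cn.mk _ y h1, Cn.val_inj h2⟩
  ne c hc h := Cn.val_inj (j.ne _ hc (by
    have h1 := congrArg Cn.val h
    rwa [map_mul, map_pow] at h1))

theorem nu_sg (h : IsCyc u) (hu : u * star u = 1) : (1 + nu h) * (1 + Cn.sg h hu (nu h)) = 1 := by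
  rw [nu, map_sub, map_one, add_sub_cancel, add_sub_cancel]
  exact Cn.val_inj hu

/-- the unitary elements of norm one -/
def tw (h : IsCyc u) (hu : u * star u = 1) {φ : RingAut A} (hφ : φ u = u) (e : ℕ) : Set (Cn h) :=
  {w | w * Cn.sg h hu w = 1 ∧ ∏ k ∈ range e, rs h (pow_fix hφ k) w = 1}

theorem tw_mul (h : IsCyc u) (hu : u * star u = 1) {φ : RingAut A} (hs : φ ∈ SAut A) (hφ : φ u = u) (e : ℕ) :
    ∀ w ∈ tw h hu hφ e, ∀ w' ∈ tw h hu hφ e, w * Cn.sg h hu w' ∈ tw h hu hφ e := fun w hw w' hw' => by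
  refine ⟨?_, ?_⟩
  · rw [map_mul, Cn.sg_sg]
    linear_combination (w' * Cn.sg h hu w') * hw.1 + hw'.1
  · have h1 : ∀ k, rs h (pow_fix hφ k) (Cn.sg h hu w') = Cn.sg h hu (rs h (pow_fix hφ k) w') := fun k =>
      Cn.val_inj ((SAut A).pow_mem hs k _)
    simp only [map_mul, h1, prod_mul_distrib, ← map_prod, hw.2, hw'.2, map_one, mul_one]

theorem cj_pow (h : IsCyc u) {φ : RingAut A} (hφ : φ u = u) {W : Aˣ} {w : Cn h} (hw : (W : A) = Cn.val w) (e : ℕ) :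
    ∃ v : Aˣ, (v : A) = Cn.val (∏ k ∈ range e, rs h (pow_fix hφ k) w) ∧ (cj A W * φ) ^ e = cj A v * φ ^ e := by
  induction e with
  | zero => exact ⟨1, by simp, by simp⟩
  | succ e ih =>
    obtain ⟨v, h1, h2⟩ := ih
    refine ⟨v * um (φ ^ e) W, by rw [prod_range_succ, map_mul, val_rs, ← h1, ← hw]; rfl, ?_⟩
    rw [pow_succ, h2, map_mul, ← conj_cj]
    group

end cn

variable {F : FR A} {u : Aˣ} {φ : RingAut A} {e : ℕ}

omit [Finite A] in
theorem comm_el (hu : u ∈ I0 F) (hφ : φ u = u) : φ * (el hu : F.S) = (el hu : F.S) * φ := by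
  have h1 := conj_cj φ u
  rw [show um φ u = u from Units.ext hφ] at h1
  exact mul_inv_eq_iff_eq_mul.1 h1

theorem fx_le_lv (ss : SS A) (hφ : φ ∈ F.Aut) (he : φ ^ e = 1) (hu : u ∈ I0 F) (h1 : φ u = u) (j : Jd (u : A) n)
    (hn : 0 < n) : fx ((Subgroup.centralizer {φ}).subgroupOf F.S) (el hu) ≤
      lv (tw j.isCyc (FR.comm_le_Iso hu).1 h1 e) (nu j.isCyc) 1 := by
  have := finAut (A := A)
  refine (fx_le_tw (fun _ => FR.conj_mem_S hφ) (comm_el hu h1) he).trans ?_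
  have k : ∀ x : {x : F.S // (x : RingAut A) * el hu = el hu * x ∧ ((x : RingAut A) * φ) ^ e = 1},
      ∃ (w : {w // w ∈ tw j.isCyc (FR.comm_le_Iso hu).1 h1 e ∧ ∃ y, w = 1 + nu j.isCyc ^ 1 * y}) (W : Aˣ),
        (W : A) = Cn.val w.1 ∧ (x.1 : RingAut A) = cj A W := by
    rintro ⟨⟨_, v, hv, rfl⟩, h2, h3⟩
    obtain ⟨z, hz, h4⟩ := cj_eq_iff.1 (show cj A (v * u) = cj A (u * v) by rw [map_mul, map_mul]; exact h2)
    have h5 : (z : A) = 1 := by
      have h5 : cj A v (u : A) = (u : A) * z := cj_eq_of_mul (by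
        rw [mul_assoc, ← cen_comm hz, ← mul_assoc]; exact congrArg Units.val h4)
      have h6 : IsNilpotent (cj A v ((u : A) - 1)) := IsNilpotent.map ⟨n, j.nil⟩ _
      rw [map_sub, map_one, h5] at h6
      have c1 : Commute (u : A) z := cen_comm hz u
      have c2 : Commute (z : A) (u - 1) := c1.symm.sub_right (Commute.one_right _)
      have h7 := Commute.isNilpotent_sub (((((Commute.refl _).sub_right (Commute.one_right _)).mul_right c1).mul_left
        (c2.mul_right (Commute.refl _))).sub_left (Commute.one_left _)) h6 (c2.symm.isNilpotent_mul_right ⟨n, j.nil⟩)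
      refine sub_eq_zero.1 (cen_nil ss (sub_mem hz (one_mem _)) ?_)
      convert h7 using 1
      noncomm_ring
    have h6 : (v : A) * u = u * v := by simpa [h5] using congrArg Units.val h4
    obtain ⟨c, hc, y, h7⟩ := j.tp.dec (Cn.mk _ v h6)
    set σ := Cn.sg j.isCyc (FR.comm_le_Iso hu).1
    have hσ := nu_sg j.isCyc (FR.comm_le_Iso hu).1
    have h8 : Cn.mk j.isCyc v h6 * σ (Cn.mk _ v h6) = 1 := Cn.val_inj (FR.comm_le_Iso hv).1
    have h9 : c * σ c - 1 = 0 := j.tp.cancel (sub_mem (mul_mem hc (star_cen hc)) (one_mem _)) hn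
      (y := y * σ c - (c + nu _ * y) * (1 + σ (nu _)) * σ y) (by
        rw [h7, map_add, map_mul] at h8
        linear_combination h8 - (c + nu _ * y) * σ y * hσ)
    have h10 : Cn.val c * star (Cn.val c) = 1 := congrArg Cn.val (sub_eq_zero.1 h9)
    have h11 : ((v * (mkU _ h10)⁻¹ : Aˣ) : A) = Cn.val (Cn.mk j.isCyc v h6 * σ c) := rfl
    have h12 : cj A v = cj A (v * (mkU _ h10)⁻¹) := (cj_eq_iff.2 ⟨_, inv_cen (u := mkU _ h10) hc, rfl⟩).symm
    have h13 : Cn.mk j.isCyc v h6 * σ c = 1 + nu _ ^ 1 * (y * σ c) := by linear_combination σ c * h7 + h9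
    refine ⟨⟨_, ⟨?_, ?_⟩, _, h13⟩, _, h11, h12⟩
    · rw [map_mul, Cn.sg_sg]
      linear_combination (c * σ c) * h8 + h9
    · obtain ⟨v', h14, h15⟩ := cj_pow j.isCyc h1 h11 e
      rw [← h12, h3, he, mul_one, eq_comm, cj_eq_one_iff, h14] at h15
      obtain ⟨z, hz⟩ := prod_lv (ν := nu j.isCyc) (range e) one_pos (fun k => rs _ (pow_fix h1 k) (y * σ c)) fun _ => 0
      generalize _ + nu _ * z = z' at hz
      simp only [mul_zero, add_zero] at hz
      refine sub_eq_zero.1 (j.tp.cancel (sub_mem h15 (one_mem _)) hn (y := -z') ?_)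
      simp only [h13, map_add, map_one, map_mul (rs _ _) (nu _ ^ 1), map_pow, rs_nu, hz]
      ring
  choose w W h2 h3 using k
  refine Nat.card_le_card_of_injective w fun x x' h => Subtype.ext (Subtype.ext ?_)
  rw [h3, h3, Units.ext ((h2 x).trans (h ▸ (h2 x').symm))]

variable (A) in
/-- the symmetric or skew central elements -/
def Mi (i : ℕ) : AddSubgroup A where
  carrier := {t | t ∈ Subring.center A ∧ t + (-1) ^ i * star t = 0}
  add_mem' ha hb := ⟨add_mem ha.1 hb.1, by rw [star_add, mul_add, add_add_add_comm, ha.2, hb.2, add_zero]⟩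
  zero_mem' := ⟨zero_mem _, by simp⟩
  neg_mem' ha := ⟨neg_mem ha.1, by rw [star_neg, mul_neg, ← neg_add, ha.2, neg_zero]⟩

theorem card_Mi (ss : SS A) (i : ℕ) : Nat.card (Mi A i) ≤ Nat.card (C0 A) := by
  have k : (∀ t ∈ Mi A i, star t = t) ∨ ∀ t ∈ Mi A i, star t = -t := by
    rcases neg_one_pow_eq_or A i with h | h
    · exact Or.inr fun t ht => eq_neg_of_add_eq_zero_right (by simpa [h] using ht.2)
    · exact Or.inl fun t ht => (add_neg_eq_zero.1 (by simpa [h] using ht.2)).symm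
  rcases k with k | k
  · exact Nat.card_le_card_of_injective (fun t => ⟨t.1, t.2.1, k _ t.2⟩) fun _ _ h =>
      Subtype.ext (congrArg (Subtype.val (p := (· ∈ C0 A))) h)
  rcases (Mi A i).bot_or_exists_ne_zero with h | ⟨d, hd, h0⟩
  · rw [h, AddSubgroup.card_bot]
    exact Nat.card_pos
  · exact Nat.card_le_card_of_injective (fun t => ⟨d * t.1, mul_mem hd.1 t.2.1, by
      rw [star_mul, k _ t.2, k _ hd, neg_mul_neg, cen_comm hd.1]⟩) fun _ _ h =>
      Subtype.ext ((isUnit_skew ss hd.1 (k d hd) h0).mul_left_cancel (congrArg Subtype.val h))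

theorem lv_uni (hφ : φ ∈ F.Aut) (hu : u ∈ F.Iso) (h1 : φ u = u) (j : Jd (u : A) n) {i : ℕ} (h0 : 0 < i) (hi : i < n) :
    lv (tw j.isCyc hu.1 h1 e) (nu j.isCyc) i ≤
      Nat.card ↥(Mi A i ⊓ (tr φ e).ker) * lv (tw j.isCyc hu.1 h1 e) (nu j.isCyc) (i + 1) := by
  refine (lv_step j.tp (fun _ h => h.1) (tw_mul _ _ hφ.1 _ _) (T := {t | Cn.val t ∈ Mi A i ⊓ (tr φ e).ker}) ?_).trans
    (Nat.mul_le_mul_right _ (Nat.card_le_card_of_injective (fun t => ⟨Cn.val t.1, t.2⟩) fun _ _ h =>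
      Subtype.ext (Cn.val_inj (congrArg (Subtype.val (p := (· ∈ Mi A i ⊓ (tr φ e).ker))) h))))
  rintro _ ⟨h2, h3⟩ t ht y rfl
  refine ⟨⟨ht, ?_⟩, ?_⟩
  · have h4 := congrArg Cn.val (j.tp.uni (nu_sg _ hu.1) (fun _ => star_cen) h0 hi ht h2)
    rwa [map_add, map_mul, map_pow, map_neg, map_one] at h4
  · obtain ⟨z, hz⟩ := prod_lv (ν := nu j.isCyc) (range e) h0 (fun k => rs _ (pow_fix h1 k) t) fun k => rs _ (pow_fix h1 k) y
    simp only [map_add, map_one, map_mul, map_pow, rs_nu, hz, add_eq_left] at h3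
    have h4 := congrArg Cn.val (j.tp.cancel (Subring.sum_mem _ fun k _ => map_cen _ ht) hi h3)
    rw [map_sum, sum_range] at h4
    exact h4

/-- **field automorphisms** -/
theorem fx_field (ss : SS A) (hφ : φ ∈ F.Aut) {c : A} (g : Gal φ e c) (hc : c ∈ C0 A) (hu : u ∈ I0 F) (h1 : φ u = u)
    (j : Jd (u : A) n) (hn : 0 < n) {q : ℕ} (hq : Nat.card (C0 A) = q ^ e) :
    fx ((Subgroup.centralizer {φ}).subgroupOf F.S) (el hu) ≤ (q ^ (e - 1)) ^ (n - 1) := by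
  refine (fx_le_lv ss hφ g.pow hu h1 j hn).trans (lv_le j.tp.nil (a := 1) (fun i h0 hi =>
    (lv_uni hφ (FR.comm_le_Iso hu) h1 j h0 hi).trans (Nat.mul_le_mul_right _ ?_)) _ 1 le_rfl (by omega))
  have s : St φ c (Mi A i) := ⟨fun t ht => ⟨map_cen _ ht.1, by
    simpa only [map_add, map_mul, map_pow, map_neg, map_one, map_zero, hφ.1 t] using congrArg φ ht.2⟩, fun t ht =>
    ⟨mul_mem hc.1 ht.1, by rw [star_mul, hc.2, ← mul_assoc, cen_comm hc.1, ← mul_add, ht.2, mul_zero]⟩⟩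
  have h2 := card_Mi ss i
  rw [hq, g.card_eq s, Nat.pow_le_pow_iff_left g.pos.ne'] at h2
  exact (g.card_ker s).trans_le (Nat.pow_le_pow_left h2 _)

theorem lv_odd (hφ : φ ∈ F.Aut) (h2 : ∀ z ∈ Subring.center A, φ z = star z) (hu : u ∈ F.Iso) (h1 : φ u = u)
    (j : Jd (u : A) n) {i : ℕ} (h0 : Odd i) (hi : i + 1 < n) :
    lv (tw j.isCyc hu.1 h1 2) (nu j.isCyc) i ≤ lv (tw j.isCyc hu.1 h1 2) (nu j.isCyc) (i + 1) := by
  refine (lv_step j.tp (fun _ h => h.1) (tw_mul _ _ hφ.1 _ _) (T := {0}) ?_).trans (by simp)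
  rintro w ⟨h3, h4⟩ t ht y hw
  refine j.tp.odd (σ := (Cn.sg _ hu.1).comp (rs _ h1)) (by rw [RingHom.comp_apply, rs_nu, nu_sg]) (fun c hc => Cn.val_inj
    ((congrArg star (h2 _ hc)).trans (star_star _))) h0 hi ht (y := y) ?_
  have h5 : w * rs _ h1 w = 1 := by
    rw [prod_range_succ, prod_range_one] at h4
    exact Cn.val_inj (by simpa only [map_mul, val_rs, pow_zero, pow_one, ra_one] using congrArg Cn.val h4)
  have h6 : rs _ h1 w = Cn.sg _ hu.1 w := by linear_combination Cn.sg _ hu.1 w * h5 - rs _ h1 w * h3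
  rw [← hw, RingHom.comp_apply, h6, Cn.sg_sg]

/-- **graph automorphisms** -/
theorem fx_graph (ss : SS A) (hφ : φ ∈ F.Aut) (he : φ ^ 2 = 1) (h2 : ∀ z ∈ Subring.center A, φ z = star z) (hu : u ∈ I0 F)
    (h1 : φ u = u) (j : Jd (u : A) n) (hn : 5 ≤ n) :
    fx ((Subgroup.centralizer {φ}).subgroupOf F.S) (el hu) ≤ Nat.card (C0 A) ^ (n - 3) := by
  have k := fun i h0 hi => (lv_uni (e := 2) hφ (FR.comm_le_Iso hu) h1 j (i := i) h0 hi).trans
    (Nat.mul_le_mul_right _ ((AddSubgroup.card_le_of_le inf_le_left).trans (card_Mi ss i)))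
  refine (fx_le_lv ss hφ he hu h1 j (by omega)).trans ((lv_odd hφ h2 (FR.comm_le_Iso hu) h1 j odd_one (by omega)).trans
    ((k 2 two_pos (by omega)).trans ?_))
  rw [show n - 3 = n - 4 + 1 by omega, pow_succ']
  exact Nat.mul_le_mul_left _ ((lv_odd hφ h2 (FR.comm_le_Iso hu) h1 j (by decide) (by omega)).trans
    (lv_le j.tp.nil (a := 1) k _ 4 (by omega) (by omega)))

end Cfsg.Agent.N2C.Sub
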