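import Cfsg.Agent.N2.Cl.Sub.Red

/-!
# N2 classical, classes C5 and C8 (helper89): the inequalities, the big groups
-/

set_option autoImplicit false
set_option linter.unusedSectionVars false
set_option maxHeartbeats 400000

namespace Cfsg.Agent.N2C.Sub

open Cfsg Cfsg.Agent.DS.Cl Cfsg.Agent.DS.Cl.Fwd Module
open Cfsg.Agent.N2C.Cyc
open Cfsg.Agent.TH.Cl (KL KU KSp KO)
open Cfsg.Agent.SB.Fld (prL)

section num

variable {q ρ n m e g B S X : ℕ}

theorem pw {c k a b : ℕ} (hρ : 2 ≤ ρ) (hc : c ≤ 2 ^ k) (h : k + a ≤ b) : c * ρ ^ a ≤ ρ ^ b :=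
  (Nat.mul_le_mul_right _ (hc.trans (Nat.pow_le_pow_left hρ k))).trans (pow_add ρ k a ▸ Nat.pow_le_pow_right (by omega) h)

theorem lin_le (a k : ℕ) (h : a * 4 ≤ 2 ^ k) (hn : 4 ≤ n) : a * n ≤ 2 ^ (k + (n - 4)) := by
  obtain ⟨n, rfl⟩ := Nat.exists_eq_add_of_le hn
  rw [Nat.add_sub_cancel_left, pow_add]
  have := n.lt_two_pow_self
  nlinarith

theorem ch (n : ℕ) : 2 * n.choose 2 + n = n * n ∧ 2 * (n + 1).choose 2 = n * n + n := by
  have k : ∀ n : ℕ, 2 * (n + 1).choose 2 = n * n + n := fun n => by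
    rw [Nat.choose_two_right, Nat.add_sub_cancel, Nat.mul_div_cancel' (mul_comm n _ ▸ n.even_mul_succ_self.two_dvd)]
    ring
  refine ⟨?_, k n⟩
  rcases n with _ | n
  · simp
  · rw [k]; ring

theorem num_gen {b s t d Y : ℕ} (ht : 0 < t) (hB : B ≤ b * q ^ d) (hS : s * (q ^ d * Y) ≤ t * S) (h : t * b * X ^ 3 ≤ s * Y) :
    X ^ 3 * B ≤ S := Nat.le_of_mul_le_mul_left (calc
  t * (X ^ 3 * B) ≤ t * (X ^ 3 * (b * q ^ d)) := by gcongr
  _ = t * b * X ^ 3 * q ^ d := by ring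
  _ ≤ s * Y * q ^ d := by gcongr
  _ = s * (q ^ d * Y) := by ring
  _ ≤ t * S := hS) ht

theorem pow_split (he : 2 ≤ e) (q d : ℕ) : (q ^ e) ^ d = q ^ d * (q ^ (e - 1)) ^ d := by
  rw [← mul_pow, ← pow_succ', Nat.sub_add_cancel (by omega)]

theorem le_rho (he : 2 ≤ e) : q ≤ q ^ (e - 1) := Nat.le_self_pow (by omega) q

theorem num_LU (hq : 2 ≤ q) (he : 2 ≤ e) (hn : 4 ≤ n) (g0 : g ∣ n) (hB : B ≤ 3 * q ^ (n ^ 2))
    (hS : (q ^ e) ^ (n ^ 2 - 1) ≤ 2 * g * S) : ((q ^ (e - 1)) ^ (n - 1)) ^ 3 * B ≤ S := by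
  have h1 := le_rho (q := q) he
  have h2 := Nat.le_of_dvd (by omega) g0
  refine num_gen (q := q) (b := 3 * q) (s := 1) (t := 2 * g) (d := n ^ 2 - 1) (by
    have := Nat.pos_of_dvd_of_pos g0 (by omega); omega) (by
      rwa [mul_assoc, ← pow_succ', Nat.sub_add_cancel (Nat.one_le_pow _ _ (by omega))]) (by rwa [one_mul, ← pow_split he]) ?_
  generalize q ^ (e - 1) = ρ at h1
  calc _ ≤ 2 * n * (3 * ρ) * (ρ ^ (n - 1)) ^ 3 := by gcongr
    _ = 6 * n * ρ ^ ((n - 1) * 3 + 1) := by ring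
    _ ≤ _ := by
      rw [one_mul]
      refine pw (by omega) (lin_le 6 5 (by norm_num) hn) ?_
      obtain ⟨n, rfl⟩ := Nat.exists_eq_add_of_le hn
      rw [show 4 + n - 1 = n + 3 by omega, Nat.add_sub_cancel_left]
      exact Nat.le_sub_of_add_le (by nlinarith)

theorem num_Sp (hq : 2 ≤ q) (he : 2 ≤ e) (hn : 5 ≤ n) (hB : B ≤ 2 * q ^ (n + 1).choose 2)
    (hS : (q ^ e) ^ (n + 1).choose 2 ≤ 3 * S) : ((q ^ (e - 1)) ^ (n - 1)) ^ 3 * B ≤ S := by
  refine num_gen (s := 1) three_pos hB (by rwa [one_mul, ← pow_split he]) ?_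
  rw [one_mul, ← pow_mul _ (n - 1)]
  refine pw (k := 3) (hq.trans (le_rho (q := q) he)) (by norm_num) ?_
  have := (ch n).2
  have : n * 5 ≤ n * n := Nat.mul_le_mul_left _ hn
  omega

theorem num_O1 (hq : 3 ≤ q) (he : 2 ≤ e) (hn : 7 ≤ n) (hB : B ≤ 4 * q ^ n.choose 2)
    (hS : 5 * (q ^ e) ^ n.choose 2 ≤ 32 * S) : ((q ^ (e - 1)) ^ (n - 1)) ^ 3 * B ≤ S := by
  refine num_gen (s := 5) (t := 32) (by norm_num) hB (by rwa [← pow_split he]) ?_
  have h1 := hq.trans (le_rho he)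
  generalize q ^ (e - 1) = ρ at h1
  have h2 : ρ ^ (3 + (n - 1) * 3) ≤ ρ ^ n.choose 2 := Nat.pow_le_pow_right (by omega) (by
    have := (ch n).1
    have h3 : (n - 1) * 7 ≤ (n - 1) * n := Nat.mul_le_mul_left _ hn
    rw [Nat.sub_one_mul n n] at h3
    omega)
  have h3 := Nat.mul_le_mul_right (ρ ^ ((n - 1) * 3)) (Nat.pow_le_pow_left h1 3)
  rw [pow_add] at h2
  rw [← pow_mul]
  omega

theorem num_O2 {t : ℕ} (hq : 2 ≤ q) (he : 2 ≤ e) (hm : 4 ≤ m) (t0 : 0 < t) (ht : 2 * t ≤ q ^ 4)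
    (hB : B ≤ 4 * q ^ (2 * m).choose 2) (hS : 5 * (q ^ e) ^ (2 * m).choose 2 ≤ t * S) : ((q ^ m + 1) ^ e) ^ 3 * B ≤ S := by
  refine num_gen t0 hB (by rwa [← pow_split he]) ?_
  obtain ⟨f, rfl⟩ := Nat.exists_eq_add_of_le he
  have h1 : q ^ 4 ≤ q ^ m := Nat.pow_le_pow_right (by omega) hm
  have h2 : 2 ^ 4 ≤ q ^ 4 := Nat.pow_le_pow_left hq 4
  have h3 : (q ^ m) ^ 7 * ((q ^ m) ^ 7) ^ f ≤ (q ^ (2 + f - 1)) ^ (2 * m).choose 2 := by
    rw [← pow_succ', ← pow_mul, ← pow_mul, ← pow_mul, show 2 + f - 1 = f + 1 by omega, ← mul_assoc, mul_comm (f + 1)]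
    refine Nat.pow_le_pow_right (by omega) (Nat.mul_le_mul_right _ ?_)
    have := (ch (2 * m)).1
    nlinarith
  generalize q ^ m = Q at h1 h3
  have h4 : (16 * (Q + 1)) ^ 6 ≤ (17 * Q) ^ 6 := Nat.pow_le_pow_left (by omega) 6
  have h5 : ((Q + 1) ^ 3) ^ f ≤ (Q ^ 7) ^ f := Nat.pow_le_pow_left (calc
    _ ≤ (Q ^ 2) ^ 3 := Nat.pow_le_pow_left (by nlinarith) 3
    _ ≤ _ := pow_mul Q 2 3 ▸ Nat.pow_le_pow_right (by omega) (by omega)) f
  have h6 : t * 4 * (Q + 1) ^ 6 ≤ 5 * Q ^ 7 := by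
    rw [mul_pow, mul_pow] at h4
    calc _ ≤ 2 * Q * (Q + 1) ^ 6 := Nat.mul_le_mul_right _ (by omega)
      _ = Q * (2 * (Q + 1) ^ 6) := by ring
      _ ≤ Q * (5 * Q ^ 6) := Nat.mul_le_mul_left _ (by omega)
      _ = _ := by ring
  calc _ = t * 4 * (Q + 1) ^ 6 * ((Q + 1) ^ 3) ^ f := by generalize Q + 1 = R; ring
    _ ≤ 5 * Q ^ 7 * (Q ^ 7) ^ f := Nat.mul_le_mul h6 h5
    _ ≤ _ := (mul_assoc 5 _ _).trans_le (Nat.mul_le_mul_left _ h3)

theorem num_gr {b d k : ℕ} (hq : 2 ≤ q) (hn : 0 < n) (g0 : g ∣ n) (hB : B ≤ b * q ^ d) (hS : q ^ (n ^ 2 - 1) ≤ 2 * g * S)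
    (h1 : 2 * b * n ≤ 2 ^ k) (h2 : k + (n - 3) * 3 + d + 1 ≤ n * n) : (q ^ (n - 3)) ^ 3 * B ≤ S := by
  have h3 := Nat.le_of_dvd hn g0
  refine num_gen (s := 1) (t := 2 * g) (Y := q ^ (n ^ 2 - 1 - d)) (by have := Nat.pos_of_dvd_of_pos g0 hn; omega) hB
    (by rwa [one_mul, ← pow_add, Nat.add_sub_cancel' (by rw [pow_two]; omega)]) ?_
  rw [one_mul, ← pow_mul]
  exact pw hq (le_trans (by nlinarith) h1) (by rw [pow_two]; omega)

theorem num_gSp (hq : 2 ≤ q) (hn : 6 ≤ n) (g0 : g ∣ n) (hB : B ≤ 2 * q ^ (n + 1).choose 2)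
    (hS : q ^ (n ^ 2 - 1) ≤ 2 * g * S) : (q ^ (n - 3)) ^ 3 * B ≤ S := by
  obtain ⟨n, rfl⟩ := Nat.exists_eq_add_of_le hn
  refine num_gr (k := 5 + n) hq (by omega) g0 hB hS (by have := n.lt_two_pow_self; rw [pow_add]; omega) ?_
  have := (ch (6 + n)).2
  rw [show 6 + n - 3 = n + 3 by omega]
  nlinarith

theorem num_gO1 (hq : 2 ≤ q) (hn : 5 ≤ n) (g0 : g ∣ n) (hB : B ≤ 4 * q ^ n.choose 2)
    (hS : q ^ (n ^ 2 - 1) ≤ 2 * g * S) : (q ^ (n - 3)) ^ 3 * B ≤ S := by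
  obtain ⟨n, rfl⟩ := Nat.exists_eq_add_of_le hn
  refine num_gr (k := 6 + n) hq (by omega) g0 hB hS (by have := n.lt_two_pow_self; rw [pow_add]; omega) ?_
  have := (ch (5 + n)).1
  rw [show 5 + n - 3 = n + 2 by omega]
  nlinarith

theorem num_gO2 (hq : 3 ≤ q) (ho : Odd q) (hm : 3 ≤ m) (g0 : g ∣ 2 * m) (g1 : g ≤ q + 1) (hB : B ≤ 2 * q ^ (2 * m).choose 2)
    (hS : 5 * q ^ ((2 * m) ^ 2 - 1) ≤ 6 * g * S) : ((q ^ m + 1) ^ 2) ^ 3 * B ≤ S := by
  have h0 := (ch (2 * m)).1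
  obtain ⟨k, hk, h1⟩ : ∃ k, (2 * m) ^ 2 - 1 = (2 * m).choose 2 + (m * 6 + k) ∧ 3 * g ≤ q ^ k := by
    obtain ⟨m, rfl⟩ := Nat.exists_eq_add_of_le hm
    refine ⟨2 + (2 * m * m + 7 * m), Nat.sub_eq_of_eq_add (by nlinarith), ?_⟩
    have h1 := Nat.le_of_dvd (by omega) g0
    rcases m with _ | m
    · obtain rfl | h2 : q = 3 ∨ 5 ≤ q := by obtain ⟨j, rfl⟩ := ho; omega
      · have : g ≠ 4 := by rintro rfl; omega
        omega
      · have := Nat.pow_le_pow_left h2 2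
        norm_num at this h1 ⊢
        omega
    · simpa using pw (a := 0) (k := 5 + (m + 4 - 4)) (show 2 ≤ q by omega) (le_trans (by omega)
        (lin_le (n := m + 4) 6 5 (by norm_num) (by omega))) (by rw [Nat.add_sub_cancel]; nlinarith)
  refine num_gen (t := 6 * g) (by have := Nat.pos_of_dvd_of_pos g0 (by omega); omega) hB (by rwa [← pow_add, ← hk]) ?_
  have h2 : 3 ^ 3 ≤ q ^ m := (Nat.pow_le_pow_left hq 3).trans (Nat.pow_le_pow_right (by omega) hm)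
  rw [pow_add, pow_mul q]
  generalize q ^ m = Q at h2
  have h4 : (27 * (Q + 1)) ^ 6 ≤ (28 * Q) ^ 6 := Nat.pow_le_pow_left (by omega) 6
  rw [mul_pow, mul_pow] at h4
  calc _ = 4 * (Q + 1) ^ 6 * (3 * g) := by ring
    _ ≤ 5 * Q ^ 6 * q ^ k := Nat.mul_le_mul (by omega) h1
    _ = _ := mul_assoc _ _ _

theorem pow_inj {a b : ℕ} (hq : 2 ≤ q) (he : 0 < e) (h : (q ^ e) ^ a = (q ^ b) ^ e) : a = b := by
  rw [← pow_mul, ← pow_mul, mul_comm b] at h
  exact Nat.eq_of_mul_eq_mul_left he (Nat.pow_right_injective hq h)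

end num

/-! ### the big groups -/

section defs

variable {A : Type} [Ring A] [StarRing A]

/-- unipotent isometries lie in the commutator group -/
def Uni (F : FR A) : Prop := ∀ u ∈ F.Iso, ∀ n, ((u : A) - 1) ^ n = 0 → u ∈ I0 F

/-- the order of `L_n(q)`, `U_n(q)` -/
def OrdLU (F : FR A) (n q : ℕ) : Prop := ∃ g, g ∣ n ∧ g ≤ q + 1 ∧ q ^ (n ^ 2 - 1) ≤ 2 * g * Nat.card F.S ∧
  (3 ≤ q → 5 * q ^ (n ^ 2 - 1) ≤ 6 * g * Nat.card F.S)

end defs

variable {K V : Type} [Field K] [Fintype K] [AddCommGroup V] [Module K V] [Finite V]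

theorem det_uni {f : End K V} (h : IsNilpotent (f - 1)) : LinearMap.det f = 1 := by
  have : Module.Finite K V := Module.Finite.of_finite
  have h1 := LinearMap.eval_charpoly (1 - f) (1 : K)
  rwa [(show IsNilpotent (1 - f) from neg_sub f 1 ▸ h.neg).charpoly_eq_X_pow_finrank, Polynomial.eval_pow, Polynomial.eval_X, one_pow, map_one,
    sub_sub_cancel, eq_comm] at h1

theorem uni_L {n : ℕ} {F : FR (LR (Fin n) K)} (k : KL F) : Uni F := fun u hu m h =>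
  k.mem_comm hu (det_uni ⟨m, by simpa only [map_pow, map_sub, map_one, map_zero] using congrArg (prL n K) h⟩)

theorem ord_L {n : ℕ} {F : FR (LR (Fin n) K)} (k : KL F) : OrdLU F n (Fintype.card K) := by
  have hq := two_le_q K
  have hn : 1 ≤ n := by have := k.dim; omega
  have h1 := oGL_ge' hq hn
  have h2 := oGL_ge hq hn
  rw [← card_S_L k] at h1 h2
  refine ⟨_, Nat.gcd_dvd_left n (Fintype.card K - 1), (Nat.gcd_le_right _ (by omega)).trans (by omega),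
    Nat.le_of_mul_le_mul_left (h1.trans_eq (by ring)) (by omega), fun h3 => ?_⟩
  generalize Fintype.card K = q at *
  obtain ⟨r, rfl⟩ := Nat.exists_eq_add_of_le h3
  rw [show (3 + r) ^ 2 - (3 + r) - 1 = r * r + 5 * r + 5 from Nat.sub_eq_of_eq_add (Nat.sub_eq_of_eq_add (by ring))] at h2
  generalize Nat.gcd n _ = g at *
  rw [show 3 + r - 1 = r + 2 by omega] at h2
  refine Nat.le_of_mul_le_mul_left (?_ : (3 + r) * (r + 2) * _ ≤ _) (by positivity)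
  nlinarith [Nat.zero_le (r * r * (3 + r) ^ (n ^ 2 - 1)), Nat.zero_le (r * (3 + r) ^ (n ^ 2 - 1))]

variable {h : HF K V} {F : FR h.EB}

theorem uni_U {q : ℕ} (k : KU h F q) : Uni F := fun _ hu m h => k.mem_comm hu (det_uni ⟨m, h⟩)

theorem two_le_U {q : ℕ} (k : KU h F q) : 2 ≤ q := by
  have h1 := two_le_q K
  rw [k.card] at h1
  by_contra h2
  have := Nat.pow_le_pow_left (show q ≤ 1 by omega) 2
  omega

theorem ord_U {q : ℕ} (k : KU h F q) : OrdLU F (finrank K V) q := by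
  have hq := two_le_U k
  have hn := k.dim
  have h1 := oGU_ge hq (show 2 ≤ finrank K V by omega)
  rw [← card_S_U k, mul_assoc, mul_left_comm _ (q + 1)] at h1
  have h2 := Nat.le_of_mul_le_mul_left h1 (by omega)
  have h3 : q ^ (finrank K V ^ 2 - 1) = q ^ 2 * q ^ (finrank K V ^ 2 - 3) := by
    have := Nat.pow_le_pow_left hn 2
    rw [← pow_add]
    congr 1
    omega
  have h4 := Nat.pow_le_pow_left hq 2
  refine ⟨_, Nat.gcd_dvd_left _ (q + 1), Nat.gcd_le_right _ (by omega), ?_, fun h5 => ?_⟩ <;> rw [h3, mul_assoc]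
  · exact (Nat.mul_le_mul_right _ (by omega)).trans ((mul_assoc _ _ _).trans_le (Nat.mul_le_mul_left _ h2))
  · have := Nat.pow_le_pow_left h5 2
    rw [← mul_assoc]
    exact (Nat.mul_le_mul_right _ (by omega)).trans ((mul_assoc _ _ _).trans_le (Nat.mul_le_mul_left _ h2))

theorem uni_Sp {j : ℕ} (k : KSp h F j) : Uni F := fun _ hu _ _ => k.mem_comm hu

theorem ord_Sp {j : ℕ} (k : KSp h F j) : Fintype.card K ^ (finrank K V + 1).choose 2 ≤ 3 * Nat.card F.S := by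
  have h1 := oSp_ge' (two_le_q K) j
  have h2 := (ch (2 * j)).2
  have h3 := Nat.mul_le_mul_right (Nat.card F.S) (Nat.gcd_le_left (Fintype.card K - 1) two_pos)
  rw [card_S_Sp k] at h3
  rw [k.dim, show (2 * j + 1).choose 2 = 2 * j ^ 2 + j by nlinarith]
  omega

variable {Q : QuadraticForm K V}

theorem uni_O (k : KO h F Q) (ho : Odd (finrank K V)) : Uni F := fun u hu n hn => by
  have := nontrivial_of_dim ho.pos
  have : Nontrivial h.EB := inferInstanceAs (Nontrivial (End K V))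
  have hp : Fact (ringChar K).Prime := ⟨CharP.char_is_prime K _⟩
  have : CharP h.EB (ringChar K) := charP_of_injective_algebraMap (algebraMap K (End K V)).injective _
  refine Fld.mem_I0_of_odd k hu (s := ringChar K ^ n) (Odd.pow (hp.out.odd_of_ne_two fun e =>
    two_ne_of_odd (nondeg_of_O k.o) ho (by exact_mod_cast (ringChar.spec K 2).2 e.dvd))) (Units.ext ?_)
  have h1 := sub_pow_char_pow_of_commute (ringChar K) n (Commute.one_right (u : h.EB))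
  rw [pow_eq_zero_of_le (Nat.lt_pow_self hp.out.one_lt).le hn, one_pow, eq_comm, sub_eq_zero] at h1
  exact (Units.val_pow_eq_pow_val _ _).trans h1

theorem ord_O (k : KO h F Q) : 5 * Fintype.card K ^ (finrank K V).choose 2 ≤ 32 * Nat.card F.S ∧
    (Even (Fintype.card K) → 5 * Fintype.card K ^ (finrank K V).choose 2 ≤ 8 * Nat.card F.S) := by
  have h1 := card_O_ge (nondeg_of_O k.o) k.dim
  have h7 := k.dim
  rw [← Nat.choose_two_right] at h1
  refine ⟨?_, fun h2 => by rw [card_O_eq_S_two k h2] at h1; omega⟩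
  have h2 := fun x => Nat.mul_le_mul_right (Nat.card F.S) (Nat.gcd_le_left x four_pos)
  rcases card_S_O k with ⟨m, h3, -, h4⟩ | ⟨m, h3, hP, h4⟩ | ⟨m, h3, hP, h4⟩
  · rw [card_O_odd (nondeg_of_O k.o) h3] at h1
    omega
  · rw [card_O_plus (nondeg_of_O k.o) (by omega) h3 hP, ← h4] at h1
    have := h2 (Fintype.card K ^ m - 1)
    omega
  · rw [card_O_minus (nondeg_of_O k.o) (by omega) h3 hP, ← h4] at h1
    have := h2 (Fintype.card K ^ m + 1)
    omega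

end Cfsg.Agent.N2C.Sub
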