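import Cfsg.Agent.N2.Cl.Sub.Filt

/-!
# N2 classical, classes C5 and C8 (helper89): the form ring of fixed points

`Dn F φ F0 ι` : `ι` maps the form ring `F0` onto the fixed ring of `φ`; `dn_field`, `dn_graph`; transfer of orders,
of `Jd` and of `To`.
-/

set_option autoImplicit false
set_option linter.unusedSectionVars false
set_option maxHeartbeats 400000

namespace Cfsg.Agent.N2C.Sub

open Cfsg Cfsg.Agent.DS.Cl Finset
open Cfsg.Agent.N2C.Cyc
open Cfsg.Agent.N2C.Size (UC card_conf_le)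

variable {A A0 : Type} [Ring A] [StarRing A] [Ring A0] [StarRing A0]

/-- the form ring of fixed points -/
structure Dn (F : FR A) (φ : RingAut A) (F0 : FR A0) (ι : A0 →+* A) : Prop where
  ss : SS A0
  inj : Function.Injective ι
  fix : ∀ y, φ (ι y) = ι y
  surj : ∀ x, φ x = x → ∃ y, ι y = x
  st : ∀ y, ι (star y) = star (ι y)
  L : ∀ y, y ∈ F0.L ↔ ι y ∈ F.L
  l : F.l - ι F0.l ∈ F.L
  card : Nat.card ((Subgroup.centralizer {φ}).subgroupOf F.S) * Nat.card (UC A0) ≤ 2 * Nat.card F0.Iso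

variable [Finite A] [Finite A0] {F : FR A} {φ : RingAut A} {e : ℕ} {c : A} {F0 : FR A0} {ι : A0 →+* A}

theorem exists_dn (ss : SS A) (hφ : φ ∈ F.Aut) (g : Gal φ e c) {l : A} (h1 : φ l = l) (h2 : F.l - l ∈ F.L)
    (h3 : F.L = Lmax A ∨ ∀ a, φ (a - star a) = a - star a → ∃ b, φ b = b ∧ a - star a = b - star b) :
    ∃ (A0 : Type) (_ : Ring A0) (_ : StarRing A0) (_ : Finite A0) (F0 : FR A0) (ι : A0 →+* A), Dn F φ F0 ι := by
  let B : BD F := ⟨fB hφ.1, l, h1, TH.Cl.FSO.l_add h2, h3, Or.inr (g.ss ss hφ.1)⟩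
  have := finAut (A := B.toBlk.T)
  refine ⟨B.toBlk.T, inferInstance, inferInstance, inferInstance, B.fr, ⟨⟨⟨B.toBlk.val, rfl⟩, fun _ _ => rfl⟩, rfl,
    fun _ _ => rfl⟩, g.ss ss hφ.1, B.toBlk.val_inj, fun y => y.2, fun x hx => ⟨B.toBlk.mk' x hx, rfl⟩, fun _ => rfl,
    fun _ => Iff.rfl, h2, le_trans (Nat.mul_le_mul_right _ ?_) (card_conf_le (g.ss ss hφ.1) B.fr)⟩
  have k : ∀ γ : (Subgroup.centralizer {φ}).subgroupOf F.S, γ.1.1 ∈ B.toBlk.stab := fun γ =>
    Blk.mem_stab (B := fB hφ.1) (K := Subgroup.centralizer {φ}) (fun δ hδ x (hx : φ x = x) => show φ (δ x) = δ x by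
      rw [← ra_mul, hδ φ rfl, ra_mul, hx]) γ.2
  have hl : ∀ γ : F.S, γ.1 ∈ Lin A := fun γ => F.PI_le_Lin (F.S_le_PI γ.2)
  refine Nat.card_le_card_of_injective (fun γ => ⟨B.toBlk.res ⟨_, k γ⟩, B.res_mem (F.S_le_Aut γ.1.2).1 ?_, fun z hz =>
    B.toBlk.val_inj (hl _ _ ((g.mem_center hφ.1).1 hz))⟩) fun γ δ h => Subtype.ext (Subtype.ext (RingEquiv.ext fun x => ?_))
  · have h4 := F.S_le_Aut γ.1.2
    convert F.L.add_mem (F.L.sub_mem h4.2 (F.map_mem h4.1 h2)) h2 using 1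
    change γ.1.1 l - l = _
    rw [map_sub]
    abel
  · refine g.ind st_top (N := (RingHom.eqLocus (γ.1.1 : A →+* A) (δ.1.1 : A →+* A)).toAddSubgroup) (fun i y _ hy => ?_)
      (AddSubgroup.mem_top x)
    have h4 : γ.1.1 y = δ.1.1 y := congrArg (fun z => B.toBlk.val (z.1 (B.toBlk.mk' y hy))) h
    change γ.1.1 _ = δ.1.1 _
    rw [map_mul, map_mul, h4, hl _ _ (pow_mem g.cen i), hl _ _ (pow_mem g.cen i)]

omit [Finite A] in
theorem c0_mul_mem (F : FR A) {d x : A} (hd : d ∈ C0 A) (hx : x ∈ F.L) : d * x ∈ F.L := by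
  rcases F.par with h | h <;> rw [h] at hx ⊢
  · obtain ⟨a, rfl⟩ := hx
    exact ⟨d * a, by rw [star_mul, hd.2, cen_comm hd.1, mul_sub]⟩
  · change star (d * x) = -(d * x)
    rw [star_mul, hd.2, cen_comm hd.1, show star x = -x from hx, mul_neg]

omit [Finite A] in
theorem st_C0 (hφ : φ ∈ SAut A) (hc : c ∈ C0 A) : St φ c (C0 A).toAddSubgroup :=
  ⟨fun x hx => ⟨map_cen φ hx.1, by rw [← hφ, hx.2]⟩, fun _ => Subring.mul_mem _ hc⟩

omit [Finite A] [StarRing A] in
theorem st_cen (hc : c ∈ Subring.center A) : St φ c (Subring.center A).toAddSubgroup :=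
  ⟨fun _ => map_cen φ, fun _ => Subring.mul_mem _ hc⟩

omit [Finite A] in
theorem st_L (hφ : φ ∈ SAut A) (hc : c ∈ C0 A) : St φ c F.L := ⟨fun _ => F.map_mem hφ, fun _ => c0_mul_mem F hc⟩

omit [Finite A] [StarRing A] in
theorem st_cent (hc : c ∈ Subring.center A) {u : A} (hu : φ u = u) : St φ c (Subring.centralizer {u}).toAddSubgroup :=
  ⟨by
    rintro x hx _ rfl
    simpa only [map_mul, hu] using congrArg φ (hx _ rfl), by
    rintro x hx _ rfl
    rw [← mul_assoc, cen_comm hc, mul_assoc, hx _ rfl, mul_assoc]⟩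

/-- **field and graph-field automorphisms** -/
theorem dn_field (ss : SS A) (hφ : φ ∈ F.Aut) (g : Gal φ e c) (hc : c ∈ C0 A) :
    ∃ (A0 : Type) (_ : Ring A0) (_ : StarRing A0) (_ : Finite A0) (F0 : FR A0) (ι : A0 →+* A), Dn F φ F0 ι := by
  obtain ⟨d, hd, h⟩ := g.exists_tr (st_C0 hφ.1 hc) (C0 A).one_mem (map_one φ)
  refine exists_dn ss hφ g (g.tr_fix (d * F.l)) ?_ (Or.inr fun a ha => ⟨_, g.tr_fix (d * a), ?_⟩)
  · have h1 : F.l = tr φ e d * F.l := by rw [h, one_mul]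
    nth_rw 1 [h1]
    rw [tr_apply, tr_apply, sum_mul, ← sum_sub_distrib]
    refine F.L.sum_mem fun j _ => ?_
    rw [map_mul, ← mul_sub, ← neg_sub]
    exact c0_mul_mem F ((st_C0 hφ.1 hc).pow_map j d hd) (F.L.neg_mem (F.Aut.pow_mem hφ j).2)
  · rw [star_tr hφ.1, star_mul, hd.2, cen_comm hd.1, ← map_sub, ← mul_sub, tr_mul' ha, h, one_mul]

omit [Finite A] in
theorem tr_two (x : A) : tr φ 2 x = x + φ x := by simp [tr_apply]

theorem L_graph (g : Gal φ 2 c) (h : ∀ z ∈ Subring.center A, φ z = star z) : F.L = Lmax A := by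
  obtain ⟨d, hd, k⟩ := g.exists_one
  exact F.L_eq hd (by rw [← h d hd, ← tr_two, k])

/-- characteristic two: the fixed ring of an irreducible group is symplectic -/
theorem exists_half (ss : SS A) (hφ : φ ∈ SAut A) (g : Gal φ 2 c) (h : ∀ z ∈ Subring.center A, φ z = star z)
    {H : Subgroup (RingAut A)} (hH : H ≤ SAut A) (hI : Irr H) (hc : ∀ γ ∈ H, γ * φ = φ * γ) (hn : ∃ a b : A, a * b ≠ b * a) :
    ∃ l, φ l = l ∧ l + star l = 1 := by
  by_cases h2 : (1 : A) + 1 = 0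
  swap
  · obtain ⟨v, hv⟩ := ss.isUnit_of_cen (add_mem (one_mem _) (one_mem _)) (by rw [star_add, star_one]) h2
    have h3 : (1 + 1) * ((v⁻¹ : Aˣ) : A) = 1 := hv ▸ v.mul_inv
    have h4 : star ((v⁻¹ : Aˣ) : A) = (v⁻¹ : Aˣ) := Units.eq_inv_of_mul_eq_one_right (by
      simpa only [star_mul, star_add, star_one, hv] using congrArg star h3)
    exact ⟨(v⁻¹ : Aˣ), (h _ (inv_cen (hv ▸ add_mem (one_mem _) (one_mem _)))).trans h4, by
      rwa [h4, ← one_mul ((v⁻¹ : Aˣ) : A), ← add_mul]⟩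
  have h3 : ∀ x : A, x + x = 0 := fun x => by rw [← one_mul x, ← add_mul, h2, zero_mul]
  let I : AddSubgroup A :=
    { carrier := {a | φ a = a ∧ ∃ b, φ b = b ∧ b + star b = a * star a}
      add_mem' := fun {a a'} ⟨h4, b, h5, h6⟩ ⟨h7, b', h8, h9⟩ => ⟨by rw [map_add, h4, h7], b + b' + a * star a', by
        rw [map_add, map_add, map_mul, hφ, h4, h5, h7, h8], by
        rw [star_add a, add_mul, mul_add, mul_add, ← h6, ← h9, star_add, star_add, star_mul, star_star]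
        abel⟩
      zero_mem' := ⟨map_zero φ, 0, map_zero φ, by simp⟩
      neg_mem' := fun ⟨h4, b, h5, h6⟩ => ⟨by rw [map_neg, h4], b, h5, by rw [star_neg, neg_mul_neg, h6]⟩ }
  have h4 : ∀ x ∈ I, ∀ a, φ a = a → a * x ∈ I := fun x ⟨h4, b, h5, h6⟩ a ha => ⟨by rw [map_mul, ha, h4],
    a * b * star a, by rw [map_mul, map_mul, hφ, ha, h5], by
      rw [star_mul, star_mul, star_mul, star_star, mul_assoc a x, ← mul_assoc x, ← h6]
      noncomm_ring⟩
  have h5 : Two (g.up I h4) := hI _ fun γ hγ x hx d hd => by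
    obtain ⟨h5, b, h6, h7⟩ := hx _ (map_cen γ⁻¹ hd)
    have h8 : tr φ 2 (d * γ x) = γ (tr φ 2 (γ⁻¹ d * x)) := by rw [map_tr (hc γ hγ), map_mul γ, ra_apply_inv]
    exact ⟨g.tr_fix _, γ b, by rw [← ra_mul, ← hc γ hγ, ra_mul, h6], by rw [h8, ← hH hγ, ← hH hγ, ← map_add, h7, map_mul]⟩
  have h6 : 1 ∈ I → ∃ l, φ l = l ∧ l + star l = 1 := fun ⟨_, b, h6, h7⟩ => ⟨b, h6, by simpa using h7⟩
  rcases ss.two_cases h5 with h7 | h7 | ⟨ε, h7, h8⟩
  · exfalso
    let f : fix φ → fix φ := fun a => ⟨a * star (a : A), mem_fix.2 (by rw [map_mul, hφ, mem_fix.1 a.2])⟩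
    have h8 : Function.Injective f := fun a b k => Subtype.ext (sub_eq_zero.1 (h7.le (g.mem_up h4 ⟨(a - b).2,
      a * star (b : A), by rw [map_mul, hφ, mem_fix.1 a.2, mem_fix.1 b.2], by
        have h8 : (a : A) * star (a : A) = b * star (b : A) := congrArg Subtype.val k
        rw [star_mul, star_star, star_sub, sub_mul, mul_sub, mul_sub, h8, ← sub_eq_zero]
        have h9 := h3 (a * star (b : A) + b * star (a : A) - b * star (b : A))
        rw [← h9]
        abel⟩ (a - b).2)))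
    have h9 : ∀ y, φ y = y → star y = y := fun y hy => by
      obtain ⟨a, ha⟩ := Finite.surjective_of_injective h8 ⟨y, hy⟩
      rw [← show (a : A) * star (a : A) = y from congrArg Subtype.val ha, star_mul, star_star]
    obtain ⟨a, b, k⟩ := hn
    refine k (cen_comm (g.ind st_top (N := (Subring.center A).toAddSubgroup) (fun i y _ hy =>
      Subring.mul_mem _ (pow_mem g.cen i) (g.cen_of fun z hz => ?_)) (AddSubgroup.mem_top b)) a)
    rw [← h9 (z * y) (by rw [map_mul, hz, hy]), star_mul, h9 y hy, h9 z hz]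
  · exact h6 (g.one_mem (h7.ge trivial))
  · have h9 := (h8 ε).2 h7.idem 1 (one_mem _)
    rw [one_mul, tr_two, h ε h7.cen, h7.add] at h9
    exact h6 h9

/-- **graph automorphisms** -/
theorem dn_graph (ss : SS A) (hφ : φ ∈ F.Aut) (g : Gal φ 2 c) (h : ∀ z ∈ Subring.center A, φ z = star z)
    {H : Subgroup (RingAut A)} (hH : H ≤ SAut A) (hI : Irr H) (hc : ∀ γ ∈ H, γ * φ = φ * γ) (hn : ∃ a b : A, a * b ≠ b * a) :
    ∃ (A0 : Type) (_ : Ring A0) (_ : StarRing A0) (_ : Finite A0) (F0 : FR A0) (ι : A0 →+* A), Dn F φ F0 ι := by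
  obtain ⟨l, h1, h2⟩ := exists_half ss hφ.1 g h hH hI hc hn
  refine exists_dn ss hφ g h1 ?_ (Or.inl (L_graph g h))
  rw [L_graph g h]
  change star (F.l - l) = -(F.l - l)
  rw [star_sub, eq_sub_of_add_eq' h2, eq_sub_of_add_eq' F.l_add]
  abel

namespace Dn

variable (d : Dn F φ F0 ι)
include d

theorem map_Iso {u : A0ˣ} (hu : u ∈ F0.Iso) : Units.map (ι : A0 →* A) u ∈ F.Iso :=
  Fld.mem_Iso_of d.l (show ι u * star (ι u) = 1 by simpa only [map_mul, d.st, map_one] using congrArg ι hu.1)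
    (show ι u * _ * star (ι u) - _ ∈ _ by simpa only [map_mul, map_sub, d.st] using (d.L _).1 hu.2)

theorem map_I0 {u : A0ˣ} (hu : u ∈ I0 F0) : Units.map (ι : A0 →* A) u ∈ I0 F := by
  have h : F0.Iso.map (Units.map (ι : A0 →* A)) ≤ F.Iso := by
    rintro _ ⟨v, hv, rfl⟩
    exact d.map_Iso hv
  refine Subgroup.commutator_mono h h ?_
  rw [← Subgroup.map_commutator]
  exact Subgroup.mem_map_of_mem _ hu

variable (g : Gal φ e c)
include g

theorem cen {y : A0} : ι y ∈ Subring.center A ↔ y ∈ Subring.center A0 :=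
  ⟨fun h => Subring.mem_center_iff.2 fun z => d.inj (by rw [map_mul, map_mul, cen_comm h]), fun h => g.cen_of fun z hz => by
    obtain ⟨z, rfl⟩ := d.surj z hz
    rw [← map_mul, ← map_mul, cen_comm h]⟩

theorem card_eq {M : AddSubgroup A} (s : St φ c M) {P : A0 → Prop} (h : ∀ y, P y ↔ ι y ∈ M) :
    Nat.card M = Nat.card {y // P y} ^ e := by
  rw [g.card_eq s]
  congr 1
  refine (Nat.card_eq_of_bijective (fun y => ⟨ι y.1, (h _).1 y.2, d.fix _⟩) ⟨fun _ _ k => Subtype.ext (d.inj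
    (congrArg (Subtype.val (p := (· ∈ fxM φ M))) k)), fun x => ?_⟩).symm
  obtain ⟨y, hy⟩ := d.surj x x.2.2
  exact ⟨⟨y, (h y).2 (hy ▸ x.2.1)⟩, Subtype.ext hy⟩

theorem card_all : Nat.card A = Nat.card A0 ^ e := by
  rw [← AddSubgroup.card_top, ← AddSubgroup.card_top (G := A0)]
  exact d.card_eq g st_top fun _ => Iff.rfl

theorem card_cen : Nat.card (Subring.center A) = Nat.card (Subring.center A0) ^ e :=
  d.card_eq g (st_cen g.cen) fun _ => (d.cen g).symm

theorem mem_C0 {y : A0} : y ∈ C0 A0 ↔ ι y ∈ C0 A := and_congr (d.cen g).symm (by rw [← d.st, d.inj.eq_iff])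

theorem card_C0 (hφ : φ ∈ SAut A) (hc : c ∈ C0 A) : Nat.card (C0 A) = Nat.card (C0 A0) ^ e :=
  d.card_eq g (st_C0 hφ hc) fun _ => d.mem_C0 g

theorem card_L (hφ : φ ∈ SAut A) (hc : c ∈ C0 A) : Nat.card F.L = Nat.card F0.L ^ e := d.card_eq g (st_L hφ hc) d.L

theorem card_C0' (h : ∀ z ∈ Subring.center A, φ z = star z) : Nat.card (C0 A) = Nat.card (C0 A0) := by
  refine (Nat.card_eq_of_bijective (fun y => ⟨ι y.1, (d.mem_C0 g).1 y.2⟩) ⟨fun _ _ k => Subtype.ext (d.inj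
    (congrArg (Subtype.val (p := (· ∈ C0 A))) k)), fun x => ?_⟩).symm
  obtain ⟨y, hy⟩ := d.surj x ((h _ x.2.1).trans x.2.2)
  exact ⟨⟨y, (d.mem_C0 g).2 (hy ▸ x.2)⟩, Subtype.ext hy⟩

omit g in
theorem comm {u y : A0} : ι y ∈ (Subring.centralizer {ι u}).toAddSubgroup ↔ y * u = u * y :=
  ⟨fun h => d.inj (by rw [map_mul, map_mul, h _ rfl]), fun h => by
    rintro _ rfl
    rw [← map_mul, ← map_mul, h]⟩

theorem jd {u : A0} {n : ℕ} (j : Jd u n) : Jd (ι u) n where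
  nil := by simpa only [map_pow, map_sub, map_one, map_zero] using congrArg ι j.nil
  cen x hx := by
    let N : AddSubgroup A :=
      { carrier := {x | ∃ c ∈ Subring.center A, ∃ y, y * ι u = ι u * y ∧ x = c + (ι u - 1) * y}
        add_mem' := by
          rintro _ _ ⟨a, ha, y, hy, rfl⟩ ⟨b, hb, z, hz, rfl⟩
          exact ⟨a + b, add_mem ha hb, y + z, by rw [add_mul, mul_add, hy, hz], by rw [mul_add]; abel⟩
        zero_mem' := ⟨0, zero_mem _, 0, by simp, by simp⟩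
        neg_mem' := by
          rintro _ ⟨a, ha, y, hy, rfl⟩
          exact ⟨-a, neg_mem ha, -y, by rw [neg_mul, mul_neg, hy], by rw [mul_neg]; abel⟩ }
    refine g.ind (st_cent g.cen (d.fix u)) (N := N) (fun i y h1 h2 => ?_) (by rintro _ rfl; exact hx.symm)
    obtain ⟨y, rfl⟩ := d.surj y h2
    obtain ⟨a, ha, z, hz, rfl⟩ := j.cen y (d.comm.1 h1)
    refine ⟨c ^ i * ι a, mul_mem (pow_mem g.cen i) ((d.cen g).2 ha), c ^ i * ι z,
      ((st_cent g.cen (d.fix u)).pow_mul i _ (d.comm.2 hz) _ rfl).symm, ?_⟩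
    rw [map_add, map_mul, map_sub, map_one, mul_add, ← mul_assoc, ← mul_assoc, cen_comm (pow_mem g.cen i)]
  ne x hx h := by
    let M : AddSubgroup A := (Subring.center A).toAddSubgroup ⊓ (AddMonoidHom.mulRight ((ι u - 1) ^ (n - 1))).ker
    refine g.ind (M := M) (N := ⊥) ⟨fun y hy => ⟨map_cen φ hy.1, ?_⟩, fun y hy => ⟨Subring.mul_mem _ g.cen hy.1, ?_⟩⟩
      (fun i y h1 h2 => ?_) ⟨hx, h⟩
    · change φ y * _ = 0
      simpa only [map_mul, map_pow, map_sub, map_one, map_zero, d.fix] using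
        congrArg φ (show y * (ι u - 1) ^ (n - 1) = 0 from hy.2)
    · change c * y * _ = 0
      rw [mul_assoc, show y * (ι u - 1) ^ (n - 1) = 0 from hy.2, mul_zero]
    · obtain ⟨y, rfl⟩ := d.surj y h2
      rw [j.ne y ((d.cen g).1 h1.1) (d.inj (by
        rw [map_mul, map_pow, map_sub, map_one, map_zero]
        exact h1.2)),
        map_zero, mul_zero]
      exact zero_mem _

theorem isCyc {u : A0} (h : IsCyc u) : IsCyc (ι u) := fun x y hx hy => by
  have k : ∀ x y : A, (∀ z, z * u = u * z → x * ι z = ι z * x) → y * ι u = ι u * y → x * y = y * x := fun x y hx hy =>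
    g.ind (st_cent g.cen (d.fix u)) (N := (Subring.centralizer {x}).toAddSubgroup) (fun i z h1 h2 => by
      obtain ⟨z, rfl⟩ := d.surj z h2
      rintro _ rfl
      rw [mul_assoc, ← hx z (d.comm.1 h1), ← mul_assoc, ← mul_assoc, cen_comm (pow_mem g.cen i)])
      (show y ∈ _ by rintro _ rfl; exact hy.symm) x rfl
  exact k x y (fun z hz => (k _ x (fun w hw => by rw [← map_mul, ← map_mul, h z w hz hw]) hx).symm) hy

theorem cA_eq (u : A0) : cA (ι u) = cA u ^ e :=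
  (Nat.card_congr (Equiv.subtypeEquivRight fun x => ⟨fun h => by rintro _ rfl; exact h.symm, fun h => (h _ rfl).symm⟩)).trans
    (d.card_eq g (st_cent g.cen (d.fix u)) fun _ => d.comm.symm)

/-- **tori** -/
theorem cU_le {u : A0} (hu : u * star u = 1) {Q : ℕ} (t : To u (Q ^ 2)) : cU (ι u) ≤ (Q + 1) ^ e := by
  have := d.ss.1
  have m : ∀ x : A0, x * u = u * x → x ∈ Subring.centralizer {u} := fun x hx => by rintro _ rfl; exact hx.symm
  have h : IsCyc u := fun x y hx hy => t.tr.comm x (m x hx) y (m y hy)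
  set σ := Cn.sg h hu
  have h1 : IsUnit (u - star u) := t.tr.skew _ (sub_mem (m u rfl) (t.tr.star_mem u (m u rfl)))
    (by rw [star_sub, star_star, neg_sub]) (sub_ne_zero.2 t.ne.symm)
  obtain ⟨δ, hδ⟩ := (Cn.isUnit (x := Cn.mk h u rfl - σ (Cn.mk h u rfl)) h1).exists_right_inv
  have h2 : σ δ = -δ := by
    have h2 := congrArg σ hδ
    rw [map_mul, map_sub, Cn.sg_sg, map_one] at h2
    linear_combination -δ * h2 - σ δ * hδ
  have h3 : Nat.card {x : Cn h // σ x = x} ^ 2 = cA u := by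
    rw [Cyc.cA_eq h, pow_two, ← Nat.card_prod]
    refine Nat.card_eq_of_bijective (fun z => z.1.1 + Cn.mk h u rfl * z.2.1) ⟨fun z w (k : _ + _ = _ + _) => ?_, fun z => ?_⟩
    · have h3 := congrArg σ k
      rw [map_add, map_add, map_mul, map_mul, z.1.2, z.2.2, w.1.2, w.2.2] at h3
      have h4 : z.2.1 = w.2.1 := by linear_combination δ * k - δ * h3 - (z.2.1 - w.2.1) * hδ
      exact Prod.ext (Subtype.ext (by linear_combination k - Cn.mk h u rfl * h4)) (Subtype.ext h4)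
    · have h3 : σ (δ * (z - σ z)) = δ * (z - σ z) := by rw [map_mul, map_sub, Cn.sg_sg, h2]; ring
      exact ⟨(⟨z - Cn.mk h u rfl * (δ * (z - σ z)), by
        rw [map_sub, map_mul, h3]
        linear_combination (z - σ z) * hδ⟩, ⟨_, h3⟩), sub_add_cancel _ _⟩
  have h4 : ι u * star (ι u) = 1 := by rw [← d.st, ← map_mul, hu, map_one]
  have h5 : IsUnit (ι u - star (ι u)) := by simpa only [map_sub, d.st] using h1.map ι
  obtain ⟨a, h6, h7⟩ := exists_tr_of_unit h4 (IsUnit.mul_iff.1 (show IsUnit ((ι u - 1) * (1 + star (ι u))) by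
    rwa [sub_mul, mul_add, h4, mul_one, one_mul, add_comm, add_sub_add_left_eq_sub])).1
  have : Nontrivial {x : Cn h // σ x = x} := ⟨⟨⟨0, map_zero σ⟩, ⟨1, map_one σ⟩, fun k =>
    zero_ne_one (congrArg (fun x => Cn.val x.1) k)⟩⟩
  refine (cU_le_unit h4 (d.isCyc g h) h6 h7 rfl h5 (fun x : {x : Cn h // σ x = x} => ι (Cn.val x.1))
    (fun x => by rw [← map_mul, ← map_mul, x.1.comm]) (fun x => by rw [← d.st, ← Cn.val_sg h hu, x.2]) (fun x y k => ?_)
    Finite.one_lt_card (ν := e) (by rw [d.cA_eq g, ← h3, ← pow_mul, ← pow_mul, mul_comm])).trans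
    (Nat.pow_le_pow_left (Nat.succ_le_succ ((Nat.pow_le_pow_iff_left two_ne_zero).1 (h3.trans_le t.card))) _)
  rw [← map_sub, ← map_sub]
  exact (t.tr.sym _ (m _ (x.1 - y.1).comm) (by rw [← Cn.val_sg h hu, map_sub, x.2, y.2]) fun e =>
    k (Subtype.ext (sub_eq_zero.1 (Cn.val_inj e)))).map ι

end Dn

end Cfsg.Agent.N2C.Sub
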